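import Cfsg.Agent.Lib.Transfer.UnitaryFour.Shape
import Cfsg.Agent.Lib.Transfer.NormalComplement
import Cfsg.Agent.Lib.Invol.ZStar

/-!
# Local structure: a Sylow 2-subgroup of the shape of `PSU(3, 4)` and 2-nilpotent centralisers of involutions
-/

set_option autoImplicit false
set_option linter.unusedSectionVars false

namespace Cfsg.Agent.Transfer.UnitaryFour

open Cfsg Subgroup

universe u

variable {G : Type u} [Group G] [Finite G]

/-- The hypotheses. -/
structure Hyp (S : Sylow 2 G) : Prop where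
  shape : Shape ↥(S : Subgroup G)
  perfect : commutator G = ⊤
  npc : ∀ t : G, orderOf t = 2 → Cfsg.HasNormalPComplement 2 ↥(centralizer ({t} : Set G))

/-- The centre of the Sylow subgroup. -/
def cen (S : Sylow 2 G) : Subgroup G := (center (S : Subgroup G)).map (S : Subgroup G).subtype

variable {S : Sylow 2 G}

theorem cen_le : cen S ≤ (S : Subgroup G) := map_subtype_le _

theorem comm_of_cen {v s : G} (hv : v ∈ cen S) (hs : s ∈ (S : Subgroup G)) : v * s = s * v := by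
  obtain ⟨w, hw, rfl⟩ := hv
  exact (congrArg Subtype.val (mem_center_iff.1 hw ⟨s, hs⟩)).symm

theorem mem_cen {v : G} (hv : v ∈ (S : Subgroup G)) :
    v ∈ cen S ↔ (⟨v, hv⟩ : ↥(S : Subgroup G)) ∈ center (S : Subgroup G) :=
  ⟨fun ⟨w, hw, e⟩ => (Subtype.ext e : w = ⟨v, hv⟩) ▸ hw, fun h => ⟨_, h, rfl⟩⟩

theorem eq_one_of_odd {x : G} (hx : x ∈ (S : Subgroup G)) (h : Odd (orderOf x)) : x = 1 := by
  haveI : Fact (Nat.Prime 2) := ⟨Nat.prime_two⟩
  obtain ⟨k, hk⟩ := (IsPGroup.iff_orderOf.1 S.isPGroup') ⟨x, hx⟩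
  rw [Subgroup.orderOf_mk] at hk
  rcases k with _ | k
  · exact orderOf_eq_one_iff.1 (by rw [hk, pow_zero])
  · exact absurd (hk ▸ h) (Nat.not_odd_iff_even.2 ⟨2 ^ k, by rw [pow_succ]; ring⟩)

theorem mem_cent_of_comm {t c : G} (h : c * t = t * c) : c ∈ centralizer ({t} : Set G) :=
  mem_centralizer_singleton_iff.2 h

namespace Hyp

variable (h : Hyp S)
include h

theorem card_S : Nat.card (S : Subgroup G) = 64 := h.shape.card

theorem card_cen : Nat.card (cen S) = 4 := by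
  rw [cen, Subgroup.card_map_of_injective (S : Subgroup G).subtype_injective, h.shape.centre]

theorem cen_sq {v : G} (hv : v ∈ cen S) : v * v = 1 :=
  congrArg Subtype.val (h.shape.exp _ ((mem_cen (cen_le hv)).1 hv))

theorem cen_order {v : G} (hv : v ∈ cen S) (hv1 : v ≠ 1) : orderOf v = 2 :=
  orderOf_eq_prime (by rw [pow_two, h.cen_sq hv]) hv1

theorem sq_mem {x : G} (hx : x ∈ (S : Subgroup G)) : x * x ∈ cen S :=
  ⟨_, h.shape.sq ⟨x, hx⟩, rfl⟩

theorem mem_cen_of_sq {x : G} (hx : x ∈ (S : Subgroup G)) (h1 : x * x = 1) : x ∈ cen S :=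
  (mem_cen hx).2 (h.shape.inv _ (Subtype.ext h1))

theorem comm_mem {a b : G} (ha : a ∈ (S : Subgroup G)) (hb : b ∈ (S : Subgroup G)) :
    a * b * a⁻¹ * b⁻¹ ∈ cen S :=
  ⟨_, h.shape.comm ⟨a, ha⟩ ⟨b, hb⟩, rfl⟩

theorem full {x v : G} (hx : x ∈ (S : Subgroup G)) (hxc : x ∉ cen S) (hv : v ∈ cen S) :
    ∃ y ∈ (S : Subgroup G), y * x * y⁻¹ = v * x := by
  obtain ⟨y, hy⟩ := h.shape.full ⟨x, hx⟩ (fun hh => hxc ((mem_cen hx).2 hh)) ⟨v, cen_le hv⟩
    ((mem_cen (cen_le hv)).1 hv)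
  exact ⟨y, y.2, congrArg Subtype.val hy⟩

omit h in
theorem le_cent {v : G} (hv : v ∈ cen S) : (S : Subgroup G) ≤ centralizer ({v} : Set G) :=
  fun _ hs => mem_cent_of_comm (comm_of_cen hv hs).symm

omit h in
theorem cent_S_le {v : G} (hv : v ∈ cen S) : centralizer ((S : Subgroup G) : Set G) ≤ centralizer ({v} : Set G) :=
  fun _ hc => mem_cent_of_comm (mem_centralizer_iff.1 hc v (cen_le hv)).symm

/-- The core of the centraliser of a central involution. -/
theorem exists_core {v : G} (hv : v ∈ cen S) (hv1 : v ≠ 1) :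
    ∃ K : Subgroup G, K ≤ centralizer ({v} : Set G) ∧ Odd (Nat.card K) ∧
      (∀ c ∈ centralizer ({v} : Set G), ∀ k ∈ K, c * k * c⁻¹ ∈ K) ∧
      ∀ c ∈ centralizer ({v} : Set G), ∃ k ∈ K, ∃ s ∈ (S : Subgroup G), c = k * s := by
  haveI : Fact (Nat.Prime 2) := ⟨Nat.prime_two⟩
  set C := centralizer ({v} : Set G)
  obtain ⟨N, hn, hd, k, hk⟩ := hasNormalPComplement_iff_exists.1 (h.npc v (h.cen_order hv hv1))
  have hc := isComplement'_sylow (S.subtype (le_cent hv)) hd hk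
  refine ⟨N.map C.subtype, map_subtype_le _, ?_, ?_, ?_⟩
  · rw [Subgroup.card_map_of_injective C.subtype_injective, Nat.odd_iff, ← Nat.two_dvd_ne_zero]
    exact hd
  · rintro c hcC _ ⟨n, hn', rfl⟩
    exact ⟨_, hn.conj_mem n hn' ⟨c, hcC⟩, rfl⟩
  · intro c hcC
    obtain ⟨n, hn', s, hs, e⟩ := mem_sup_of_normal_left.1 (hc.sup_eq_top ▸ mem_top (⟨c, hcC⟩ : C))
    exact ⟨n, mem_map_of_mem _ hn', s, hs, (congrArg Subtype.val e).symm⟩

omit h in
theorem core_inf {K : Subgroup G} (hK : Odd (Nat.card K)) {x : G} (hxK : x ∈ K) (hxS : x ∈ (S : Subgroup G)) :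
    x = 1 :=
  eq_one_of_odd hxS (hK.of_dvd_nat (K.orderOf_dvd_natCard hxK))

omit h in
/-- An element of the core normalising the Sylow subgroup centralises it. -/
theorem core_normalizer {v : G} (hv : v ∈ cen S) {K : Subgroup G} (hK : Odd (Nat.card K))
    (hKn : ∀ c ∈ centralizer ({v} : Set G), ∀ k ∈ K, c * k * c⁻¹ ∈ K) {k : G} (hk : k ∈ K)
    (hkN : k ∈ normalizer ((S : Subgroup G) : Set G)) : k ∈ centralizer ((S : Subgroup G) : Set G) := by
  refine mem_centralizer_iff.2 fun y hy => ?_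
  have h1 : k * y * k⁻¹ * y⁻¹ ∈ (S : Subgroup G) := mul_mem ((mem_normalizer_iff.1 hkN y).1 hy) (inv_mem hy)
  have h2 : k * y * k⁻¹ * y⁻¹ ∈ K := by
    rw [show k * y * k⁻¹ * y⁻¹ = k * (y * k⁻¹ * y⁻¹) by group]
    exact mul_mem hk (hKn y (le_cent hv hy) _ (inv_mem hk))
  have h3 := core_inf hK h2 h1
  rw [mul_inv_eq_one, mul_inv_eq_iff_eq_mul] at h3
  exact h3.symm

/-- The normalizer inside the centraliser of a central involution. -/
theorem normalizer_cent {v n : G} (hv : v ∈ cen S) (hv1 : v ≠ 1)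
    (hn : n ∈ normalizer ((S : Subgroup G) : Set G)) (hnv : n * v = v * n) :
    ∃ k ∈ centralizer ((S : Subgroup G) : Set G), ∃ s ∈ (S : Subgroup G), n = k * s := by
  obtain ⟨K, -, hK, hKn, hKd⟩ := h.exists_core hv hv1
  obtain ⟨k, hk, s, hs, rfl⟩ := hKd n (mem_cent_of_comm hnv)
  refine ⟨k, core_normalizer hv hK hKn hk ?_, s, hs, rfl⟩
  have hs' : s ∈ normalizer ((S : Subgroup G) : Set G) := le_normalizer hs
  simpa using mul_mem hn (inv_mem hs')

theorem fix_cen {v w n : G} (hv : v ∈ cen S) (hv1 : v ≠ 1) (hw : w ∈ cen S)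
    (hn : n ∈ normalizer ((S : Subgroup G) : Set G)) (hnv : n * v = v * n) : n * w = w * n := by
  obtain ⟨k, hk, s, hs, rfl⟩ := h.normalizer_cent hv hv1 hn hnv
  rw [mul_assoc, ← comm_of_cen hw hs, ← mul_assoc, ← mem_centralizer_iff.1 hk w (cen_le hw), mul_assoc]

omit h in
theorem cen_normal {n v : G} (hn : n ∈ normalizer ((S : Subgroup G) : Set G)) (hv : v ∈ cen S) :
    n * v * n⁻¹ ∈ cen S := by
  have hS := (mem_normalizer_iff.1 hn v).1 (cen_le hv)
  refine (mem_cen hS).2 (mem_center_iff.2 fun ⟨g, hg⟩ => Subtype.ext ?_)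
  show g * (n * v * n⁻¹) = n * v * n⁻¹ * g
  have h1 := comm_of_cen hv ((mem_normalizer_iff''.1 hn g).1 hg)
  calc g * (n * v * n⁻¹) = n * ((n⁻¹ * g * n) * v) * n⁻¹ := by group
    _ = n * (v * (n⁻¹ * g * n)) * n⁻¹ := by rw [h1]
    _ = _ := by group

omit h in
/-- A subgroup of the centraliser containing the 2-part of each of its elements. -/
theorem card_split {v : G} {K : Subgroup G} (hK : Odd (Nat.card K))
    (hKd : ∀ c ∈ centralizer ({v} : Set G), ∃ k ∈ K, ∃ s ∈ (S : Subgroup G), c = k * s) (H : Subgroup G)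
    (hHv : H ≤ centralizer ({v} : Set G))
    (hH : ∀ k ∈ K, ∀ s ∈ (S : Subgroup G), k * s ∈ H → s ∈ H) :
    Nat.card H = Nat.card ↥(K ⊓ H) * Nat.card ↥((S : Subgroup G) ⊓ H) := by
  rw [← Nat.card_prod]
  refine (Nat.card_congr (Equiv.ofBijective
    (fun p : ↥(K ⊓ H) × ↥((S : Subgroup G) ⊓ H) => (⟨(p.1 : G) * p.2, mul_mem p.1.2.2 p.2.2.2⟩ : H))
    ⟨fun p q e => ?_, fun c => ?_⟩)).symm
  · have e' : (p.1 : G) * p.2 = q.1 * q.2 := congrArg Subtype.val e
    have h1 : (q.1 : G)⁻¹ * p.1 = q.2 * (p.2 : G)⁻¹ := by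
      rw [inv_mul_eq_iff_eq_mul, ← mul_assoc, eq_mul_inv_iff_mul_eq, e']
    have h2 := core_inf (S := S) hK (mul_mem (inv_mem q.1.2.1) p.1.2.1) (h1 ▸ mul_mem q.2.2.1 (inv_mem p.2.2.1))
    refine Prod.ext (Subtype.ext (inv_mul_eq_one.1 h2).symm) (Subtype.ext ?_)
    exact (mul_inv_eq_one.1 (h1.symm.trans h2)).symm
  · obtain ⟨k, hk, s, hs, e⟩ := hKd c (hHv c.2)
    have hsH := hH k hk s hs (e ▸ c.2)
    have hkH : k ∈ H := by
      have := mul_mem c.2 (inv_mem hsH)
      rwa [e, mul_inv_cancel_right] at this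
    exact ⟨(⟨k, hk, hkH⟩, ⟨s, hs, hsH⟩), Subtype.ext e.symm⟩

omit h in
theorem part_comm {v : G} (hv : v ∈ cen S) {K : Subgroup G} (hK : Odd (Nat.card K))
    (hKn : ∀ c ∈ centralizer ({v} : Set G), ∀ k ∈ K, c * k * c⁻¹ ∈ K) {k s y : G} (hk : k ∈ K)
    (hs : s ∈ (S : Subgroup G)) (hy : y ∈ (S : Subgroup G)) (e : k * s * y = y * (k * s)) :
    s * y = y * s := by
  have hyC := le_cent hv hy
  have h1 : s * y * s⁻¹ * y⁻¹ ∈ K := by
    have : s * y * s⁻¹ * y⁻¹ = k⁻¹ * (y * k * y⁻¹) := by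
      have e' : s * y = k⁻¹ * (y * (k * s)) := by rw [← e]; group
      rw [e']; group
    rw [this]
    exact mul_mem (inv_mem hk) (hKn y hyC k hk)
  have h2 := core_inf hK h1 (mul_mem (mul_mem (mul_mem hs hy) (inv_mem hs)) (inv_mem hy))
  exact mul_inv_eq_iff_eq_mul.1 (mul_inv_eq_one.1 h2)

/-- The involution of a cyclic subgroup. -/
theorem exists_invol {y : G} (hy : y ∈ (S : Subgroup G)) (hy1 : y ≠ 1) :
    ∃ v ∈ cen S, v ≠ 1 ∧ centralizer ({y} : Set G) ≤ centralizer ({v} : Set G) := by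
  by_cases hyc : y ∈ cen S
  · exact ⟨y, hyc, hy1, le_rfl⟩
  · refine ⟨y * y, h.sq_mem hy, fun e => hyc (h.mem_cen_of_sq hy e), fun c hc => mem_cent_of_comm ?_⟩
    have h1 : c * y = y * c := mem_centralizer_singleton_iff.1 hc
    exact (Commute.mul_right (h1 : Commute c y) h1).eq

/-- The weights of the columns. -/
theorem card_facts {y : G} (hy : y ∈ (S : Subgroup G)) (hy1 : y ≠ 1) :
    ∃ (L : Subgroup ↥(centralizer ({y} : Set G))) (k : ℕ), L.Normal ∧ ¬ 2 ∣ Nat.card L ∧ L.index = 2 ^ k ∧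
      4 * Nat.card ↥(normalizer ((S : Subgroup G) : Set G) ⊓ centralizer ({y} : Set G)) =
        Nat.card ↥(centralizer ((S : Subgroup G) : Set G)) * 2 ^ k := by
  classical
  haveI : Fact (Nat.Prime 2) := ⟨Nat.prime_two⟩
  obtain ⟨v, hv, hv1, hle⟩ := h.exists_invol hy hy1
  obtain ⟨K, -, hK, hKn, hKd⟩ := h.exists_core hv hv1
  set N := normalizer ((S : Subgroup G) : Set G)
  set C := centralizer ({y} : Set G)
  set Z := centralizer ((S : Subgroup G) : Set G)
  obtain ⟨L, hLn, hLd, k, hLk⟩ := hasNormalPComplement_iff_exists.1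
    (hasNormalPComplement_mono hle (h.npc v (h.cen_order hv hv1)))
  refine ⟨L, k, hLn, hLd, hLk, ?_⟩
  have hC := card_split hK hKd C hle fun k hk s hs hks =>
    mem_cent_of_comm (part_comm hv hK hKn hk hs hy (mem_centralizer_singleton_iff.1 hks))
  have hNC := card_split hK hKd (N ⊓ C) (inf_le_right.trans hle) fun k hk s hs hks =>
    ⟨le_normalizer hs, mem_cent_of_comm (part_comm hv hK hKn hk hs hy (mem_centralizer_singleton_iff.1 hks.2))⟩
  have hZ := card_split hK hKd Z (cent_S_le hv) fun k hk s hs hks =>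
    mem_centralizer_iff.2 fun t ht => (part_comm hv hK hKn hk hs ht (mem_centralizer_iff.1 hks t ht).symm).symm
  have hSZ : (S : Subgroup G) ⊓ Z = cen S := by
    refine le_antisymm (fun x hx => ?_) fun x hx =>
      ⟨cen_le hx, mem_centralizer_iff.2 fun t ht => (comm_of_cen hx ht).symm⟩
    exact (mem_cen hx.1).2 (mem_center_iff.2 fun g => Subtype.ext (mem_centralizer_iff.1 hx.2 g g.2))
  have hSC : (S : Subgroup G) ⊓ (N ⊓ C) = (S : Subgroup G) ⊓ C := by
    rw [← inf_assoc, inf_eq_left.2 (le_normalizer (H := (S : Subgroup G)))]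
  have hKZ : K ⊓ (N ⊓ C) = K ⊓ Z := by
    refine le_antisymm (fun x hx => ⟨hx.1, core_normalizer hv hK hKn hx.1 hx.2.1⟩) fun x hx => ⟨hx.1, ?_, ?_⟩
    · exact mem_normalizer_iff.2 fun t => by
        constructor
        · intro ht
          rw [← mem_centralizer_iff.1 hx.2 t ht, mul_inv_cancel_right]
          exact ht
        · intro ht
          have h1 := mem_centralizer_iff.1 hx.2 _ ht
          rw [show t = x⁻¹ * (x * t * x⁻¹ * x) by group, h1, inv_mul_cancel_left]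
          exact ht
    · exact mem_cent_of_comm (mem_centralizer_iff.1 hx.2 y hy).symm
  obtain ⟨j, hj⟩ := IsPGroup.iff_card.1 (S.isPGroup'.to_le (inf_le_left : (S : Subgroup G) ⊓ C ≤ _))
  have hjk : j = k := by
    have h1 : Nat.card L * 2 ^ k = Nat.card ↥(K ⊓ C) * 2 ^ j := by
      rw [← hLk, L.card_mul_index, ← hj, ← hC]
    have hodd : ¬ 2 ∣ Nat.card ↥(K ⊓ C) := fun hd =>
      Nat.not_even_iff_odd.2 hK (even_iff_two_dvd.2 (hd.trans (card_dvd_of_le inf_le_left)))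
    have h2 := congrArg (fun n : ℕ => n.factorization 2) h1
    simp only [Nat.factorization_mul Nat.card_pos.ne' (pow_ne_zero _ two_ne_zero), Finsupp.coe_add, Pi.add_apply,
      Nat.factorization_eq_zero_of_not_dvd hLd, Nat.factorization_eq_zero_of_not_dvd hodd, zero_add,
      Nat.Prime.factorization_pow Nat.prime_two, Finsupp.single_eq_same] at h2
    exact h2.symm
  rw [hNC, hZ, hSC, hKZ, hSZ, h.card_cen, hj, hjk]
  ring

/-- Fusion in the Sylow subgroup is controlled by its normalizer. -/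
theorem fusion {x g : G} (hx : x ∈ (S : Subgroup G)) (hx1 : x ≠ 1) (hgx : g * x * g⁻¹ ∈ (S : Subgroup G)) :
    ∃ n ∈ normalizer ((S : Subgroup G) : Set G), n * x * n⁻¹ = g * x * g⁻¹ := by
  haveI : Fact (Nat.Prime 2) := ⟨Nat.prime_two⟩
  have hcent : ∀ a b : G, a ∈ cen S → b ∈ cen S → a ≠ 1 → ∀ g : G, g * a * g⁻¹ = b →
      ∃ n ∈ normalizer ((S : Subgroup G) : Set G), n * a * n⁻¹ = b := by
    intro a b ha hb _ g hg
    have h1 : ((g • S : Sylow 2 G) : Subgroup G) ≤ centralizer ({b} : Set G) := by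
      intro w hw
      rw [Sylow.coe_subgroup_smul, ← Grp.map_conj_eq_smul] at hw
      obtain ⟨s, hs, rfl⟩ := hw
      refine mem_cent_of_comm ?_
      rw [← hg]
      show g * s * g⁻¹ * (g * a * g⁻¹) = g * a * g⁻¹ * (g * s * g⁻¹)
      calc g * s * g⁻¹ * (g * a * g⁻¹) = g * (s * a) * g⁻¹ := by group
        _ = g * (a * s) * g⁻¹ := by rw [comm_of_cen ha hs]
        _ = _ := by group
    obtain ⟨c, hc⟩ := MulAction.exists_smul_eq ↥(centralizer ({b} : Set G)) ((g • S : Sylow 2 G).subtype h1)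
      (S.subtype (le_cent hb))
    rw [Sylow.smul_subtype] at hc
    have hn : (c : G) * g ∈ normalizer ((S : Subgroup G) : Set G) :=
      Sylow.smul_eq_iff_mem_normalizer.1 (by rw [mul_smul]; exact Sylow.subtype_injective hc)
    refine ⟨_, hn, ?_⟩
    have hcb : (c : G) * b = b * c := mem_centralizer_singleton_iff.1 c.2
    rw [show (c : G) * g * a * ((c : G) * g)⁻¹ = c * (g * a * g⁻¹) * (c : G)⁻¹ by group, hg, hcb,
      mul_inv_cancel_right]
  by_cases hxc : x ∈ cen S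
  · exact hcent x _ hxc (h.mem_cen_of_sq hgx (by
      rw [show g * x * g⁻¹ * (g * x * g⁻¹) = g * (x * x) * g⁻¹ by group, h.cen_sq hxc]; group)) hx1 g rfl
  set y := g * x * g⁻¹ with hy
  have hx2 : x * x ≠ 1 := fun e => hxc (h.mem_cen_of_sq hx e)
  obtain ⟨n, hn, hnx⟩ := hcent (x * x) (y * y) (h.sq_mem hx) (h.sq_mem hgx) hx2 g (by rw [hy]; group)
  have hcm : (n⁻¹ * g) * (x * x) = x * x * (n⁻¹ * g) := by
    have h1 : g * (x * x) * g⁻¹ = n * (x * x) * n⁻¹ := by rw [hnx, hy]; group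
    have h2 : g * (x * x) = n * (x * x) * n⁻¹ * g := by rw [← h1]; group
    rw [mul_assoc, h2]; group
  obtain ⟨K, -, hK, hKn, hKd⟩ := h.exists_core (h.sq_mem hx) hx2
  obtain ⟨k, hk, s, hs, e⟩ := hKd _ (mem_cent_of_comm hcm)
  set u := s * x * s⁻¹ with hu
  have huS : u ∈ (S : Subgroup G) := mul_mem (mul_mem hs hx) (inv_mem hs)
  have hx' : n⁻¹ * y * n = k * u * k⁻¹ := by
    rw [hy, show n⁻¹ * (g * x * g⁻¹) * n = (n⁻¹ * g) * x * (n⁻¹ * g)⁻¹ by group, e, hu]
    group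
  have h1 : n⁻¹ * y * n * u⁻¹ ∈ (S : Subgroup G) :=
    mul_mem ((mem_normalizer_iff''.1 hn y).1 hgx) (inv_mem huS)
  have h2 : n⁻¹ * y * n * u⁻¹ ∈ K := by
    rw [hx', show k * u * k⁻¹ * u⁻¹ = k * (u * k⁻¹ * u⁻¹) by group]
    exact mul_mem hk (hKn u (le_cent (h.sq_mem hx) huS) _ (inv_mem hk))
  have h3 : n⁻¹ * y * n = u := mul_inv_eq_one.1 (core_inf hK h2 h1)
  refine ⟨n * s, mul_mem hn (le_normalizer hs), ?_⟩
  rw [show n * s * x * (n * s)⁻¹ = n * (s * x * s⁻¹) * n⁻¹ by group, ← hu, ← h3]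
  group

/-- No involution inverts an element of order four of the Sylow subgroup. -/
theorem not_inverted {x w : G} (hx : x ∈ (S : Subgroup G)) (hxc : x ∉ cen S) (hw : orderOf w = 2) :
    w * x * w⁻¹ ≠ x⁻¹ := by
  haveI : Fact (Nat.Prime 2) := ⟨Nat.prime_two⟩
  intro e
  have hwn : zpowers w ≤ normalizer ((zpowers x : Subgroup G) : Set G) := by
    refine zpowers_le.2 (mem_normalizer_iff.2 fun t => ?_)
    have hw2 : w⁻¹ = w := inv_eq_of_mul_eq_one_right (by
      rw [← pow_two, ← hw, pow_orderOf_eq_one])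
    have hmap : ∀ i : ℤ, w * x ^ i * w⁻¹ = x ^ (-i) := fun i => by
      rw [← conj_zpow, e, inv_zpow']
    constructor
    · rintro ⟨i, rfl⟩
      exact ⟨-i, (hmap i).symm⟩
    · rintro ⟨i, hi⟩
      refine ⟨-i, ?_⟩
      show x ^ (-i) = t
      rw [← hmap i, show x ^ i = w * t * w⁻¹ from hi, hw2]
      have hww : w * w = 1 := by rw [← pow_two, ← hw, pow_orderOf_eq_one]
      rw [← mul_assoc, ← mul_assoc, hww, one_mul, mul_assoc, hww, mul_one]
  have hp1 : IsPGroup 2 ↥(zpowers w) := IsPGroup.of_card (n := 1) (by rw [Nat.card_zpowers, hw, pow_one])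
  have hp2 : IsPGroup 2 ↥(zpowers x) := S.isPGroup'.to_le (zpowers_le.2 hx)
  obtain ⟨T, hT⟩ := (hp1.to_sup_of_normal_right' hp2 hwn).exists_le_sylow
  obtain ⟨t, ht⟩ := MulAction.exists_smul_eq G T S
  have hmem : ∀ {a : G}, a ∈ (T : Subgroup G) → t * a * t⁻¹ ∈ (S : Subgroup G) := fun {a} ha => by
    rw [← ht, Sylow.coe_subgroup_smul, ← Grp.map_conj_eq_smul]
    exact ⟨a, ha, rfl⟩
  have hw' := h.mem_cen_of_sq (hmem (hT (mem_sup_left (mem_zpowers w)))) (by
    rw [show t * w * t⁻¹ * (t * w * t⁻¹) = t * (w * w) * t⁻¹ by group, ← pow_two, ← hw, pow_orderOf_eq_one]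
    group)
  have h1 := comm_of_cen hw' (hmem (hT (mem_sup_right (mem_zpowers x))))
  have h2 : w * x = x * w := by
    have h3 : t * (w * x) * t⁻¹ = t * (x * w) * t⁻¹ := by
      calc t * (w * x) * t⁻¹ = t * w * t⁻¹ * (t * x * t⁻¹) := by group
        _ = t * x * t⁻¹ * (t * w * t⁻¹) := h1
        _ = _ := by group
    exact mul_left_cancel (mul_right_cancel h3)
  rw [h2, mul_inv_cancel_right] at e
  exact hxc (h.mem_cen_of_sq hx (by nth_rewrite 2 [e]; exact mul_inv_cancel x))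

/-- Some element of the normalizer moves a given central involution. -/
theorem exists_mover {z : G} (hz : z ∈ cen S) (hz1 : z ≠ 1) :
    ∃ m ∈ normalizer ((S : Subgroup G) : Set G), m * z ≠ z * m := by
  classical
  haveI : Fact (Nat.Prime 2) := ⟨Nat.prime_two⟩
  by_contra hcon
  push Not at hcon
  have hiso : Cfsg.IsIsolatedInvolution z := by
    refine ⟨h.cen_order hz hz1, fun g hg => ?_⟩
    set y := g * z * g⁻¹ with hy
    set C := centralizer ({z} : Set G)
    have hyC : y ∈ C := mem_cent_of_comm hg.eq.symm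
    have hyp : IsPGroup 2 ↥(zpowers (⟨y, hyC⟩ : C)) := IsPGroup.of_card (n := 1) (by
      rw [Nat.card_zpowers, Subgroup.orderOf_mk, pow_one, hy,
        show g * z * g⁻¹ = MulAut.conj g z from rfl, MulEquiv.orderOf_eq, h.cen_order hz hz1])
    obtain ⟨T, hT⟩ := hyp.exists_le_sylow
    obtain ⟨c, hc⟩ := MulAction.exists_smul_eq C T (S.subtype (le_cent hz))
    have hcy : (c : G) * y * (c : G)⁻¹ ∈ (S : Subgroup G) := by
      have h1 : c * ⟨y, hyC⟩ * c⁻¹ ∈ ((S.subtype (le_cent hz) : Sylow 2 C) : Subgroup C) := by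
        rw [← hc, Sylow.coe_subgroup_smul, ← Grp.map_conj_eq_smul]
        exact ⟨_, hT (mem_zpowers _), rfl⟩
      exact h1
    obtain ⟨n, hn, hne⟩ := h.fusion (cen_le hz) hz1 (g := (c : G) * g) (by
      rw [show (c : G) * g * z * ((c : G) * g)⁻¹ = c * (g * z * g⁻¹) * (c : G)⁻¹ by group, ← hy]
      exact hcy)
    rw [hcon n hn, mul_inv_cancel_right, show (c : G) * g * z * ((c : G) * g)⁻¹ = c * y * (c : G)⁻¹ by
      rw [hy]; group] at hne
    have hcz : (c : G) * z = z * c := mem_centralizer_singleton_iff.1 c.2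
    calc y = (c : G)⁻¹ * (c * y * (c : G)⁻¹) * c := by group
      _ = (c : G)⁻¹ * z * c := by rw [← hne]
      _ = (c : G)⁻¹ * (z * c) := mul_assoc _ _ _
      _ = z := by rw [← hcz, inv_mul_cancel_left]
  obtain ⟨N, hN, hNodd, hc⟩ := Cfsg.Agent.ZStar.exists_odd_normal hiso
  have hcover : Function.Surjective ((QuotientGroup.mk' N).comp (centralizer ({z} : Set G)).subtype) := by
    intro q
    obtain ⟨g, rfl⟩ := QuotientGroup.mk'_surjective N q
    have hzz : z * z = 1 := h.cen_sq hz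
    set w := g * z * g⁻¹ * z with hw
    have hwN : w ∈ N := by
      have h1 := inv_mem (hc g)
      rwa [show (z * g * z⁻¹ * g⁻¹)⁻¹ = g * z * g⁻¹ * z⁻¹ by group, inv_eq_of_mul_eq_one_right hzz] at h1
    obtain ⟨k, hk⟩ := hNodd.of_dvd_nat (N.orderOf_dvd_natCard hwN)
    have hzw : z * w * z⁻¹ = w⁻¹ := by
      have h1 : w * (z * w * z⁻¹) = 1 := by
        rw [hw]
        calc g * z * g⁻¹ * z * (z * (g * z * g⁻¹ * z) * z⁻¹)
            = g * z * g⁻¹ * (z * z) * g * z * g⁻¹ := by group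
          _ = g * (z * z) * g⁻¹ := by nth_rewrite 1 [hzz]; group
          _ = 1 := by rw [hzz]; group
      exact (inv_eq_of_mul_eq_one_right h1).symm
    set n := w ^ (k + 1)
    have hn : n * z * n⁻¹ = g * z * g⁻¹ := by
      have h1 : z * n⁻¹ = n * z := by
        rw [← mul_inv_eq_iff_eq_mul, ← inv_pow, ← conj_pow,
          show z * w⁻¹ * z⁻¹ = (z * w * z⁻¹)⁻¹ by group, hzw, inv_inv]
      rw [mul_assoc, h1, ← mul_assoc, ← pow_add, show k + 1 + (k + 1) = orderOf w + 1 by omega, pow_succ,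
        pow_orderOf_eq_one, one_mul, hw, mul_assoc _ z z, hzz, mul_one]
    refine ⟨⟨n⁻¹ * g, mem_cent_of_comm ?_⟩, ?_⟩
    · rw [mul_assoc, show g * z = g * z * g⁻¹ * g by group, ← hn]
      group
    · show (QuotientGroup.mk' N) (n⁻¹ * g) = _
      rw [map_mul, map_inv, show (QuotientGroup.mk' N) n = 1 from (QuotientGroup.eq_one_iff n).2 (pow_mem hwN _),
        inv_one, one_mul]
  have hq := hasNormalPComplement_of_surjective _ hcover (h.npc z (h.cen_order hz hz1))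
  obtain ⟨L, hLn, hLd, k, hk⟩ := hasNormalPComplement_iff_exists.1 hq
  have hperf : commutator (G ⧸ N) = ⊤ := by
    rw [_root_.commutator_def, ← Subgroup.map_top_of_surjective _ (QuotientGroup.mk'_surjective N),
      ← Subgroup.map_commutator, ← _root_.commutator_def, h.perfect]
  have hk0 : L = ⊤ := by
    by_contra hne
    haveI : Nontrivial ((G ⧸ N) ⧸ L) := QuotientGroup.nontrivial_iff.2 hne
    have hp : IsPGroup 2 ((G ⧸ N) ⧸ L) := IsPGroup.of_card (n := k) (by rw [← index_eq_card, hk])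
    haveI := hp.isNilpotent
    refine (Group.IsSolvable.commutator_lt_top_of_nontrivial ((G ⧸ N) ⧸ L)).ne ?_
    rw [_root_.commutator_def, ← Subgroup.map_top_of_surjective _ (QuotientGroup.mk'_surjective L),
      ← Subgroup.map_commutator, ← _root_.commutator_def, hperf]
  refine hLd ?_
  rw [hk0, card_top]
  have hzN : z ∉ N := fun hzN => hz1 (eq_one_of_odd (cen_le hz) (hNodd.of_dvd_nat (N.orderOf_dvd_natCard hzN)))
  have h1 : orderOf (QuotientGroup.mk' N z) = 2 :=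
    orderOf_eq_prime (by rw [← map_pow, pow_two, h.cen_sq hz, map_one])
      fun e => hzN ((QuotientGroup.eq_one_iff z).1 e)
  exact h1 ▸ orderOf_dvd_natCard _

end Hyp

end Cfsg.Agent.Transfer.UnitaryFour
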