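import Cfsg.Agent.Lib.Transfer.UnitaryFour.Columns
import Cfsg.Agent.Lib.Char.ModP

/-!
# No perfect group has such a Sylow 2-subgroup and 2-nilpotent centralisers of involutions
-/

set_option autoImplicit false
set_option linter.unusedSectionVars false
set_option linter.style.haveILetI false

namespace Cfsg.Agent.Transfer.UnitaryFour

open Cfsg Cfsg.Agent.Block

universe u

/-- Five three-element sets meeting pairwise in two elements have a common pair. -/
theorem sunflower {α : Type*} [DecidableEq α] (T : Fin 5 → Finset α) (h3 : ∀ i, (T i).card = 3)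
    (h2 : ∀ i j, i ≠ j → (T i ∩ T j).card = 2) : ∃ P : Finset α, P.card = 2 ∧ ∀ i, P ⊆ T i := by
  set P := T 0 ∩ T 1 with hP
  have hPc : P.card = 2 := h2 0 1 (by decide)
  refine ⟨P, hPc, ?_⟩
  set U := T 0 ∪ T 1 with hU
  have hUc : U.card = 4 := by
    have := Finset.card_union_add_card_inter (T 0) (T 1)
    rw [h3, h3, ← hP, hPc, ← hU] at this
    omega
  have key : ∀ k : Fin 5, k ≠ 0 → k ≠ 1 → ∀ a ∈ P, a ∉ T k → T k = U.erase a := by
    intro k hk0 hk1 a ha hak
    have sub : ∀ j : Fin 5, j ≠ k → a ∈ T j → (T j).erase a ⊆ T k := by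
      intro j hj haj
      have hle : T j ∩ T k ⊆ (T j).erase a := fun x hx =>
        Finset.mem_erase.2 ⟨fun e => hak (e ▸ (Finset.mem_inter.1 hx).2), (Finset.mem_inter.1 hx).1⟩
      have := Finset.eq_of_subset_of_card_le hle (by rw [Finset.card_erase_of_mem haj, h3, h2 j k hj])
      rw [← this]
      exact Finset.inter_subset_right
    refine (Finset.eq_of_subset_of_card_le ?_ ?_).symm
    · intro x hx
      obtain ⟨hxa, hxU⟩ := Finset.mem_erase.1 hx
      rcases Finset.mem_union.1 hxU with hx0 | hx1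
      · exact sub 0 (Ne.symm hk0) (Finset.mem_inter.1 ha).1 (Finset.mem_erase.2 ⟨hxa, hx0⟩)
      · exact sub 1 (Ne.symm hk1) (Finset.mem_inter.1 ha).2 (Finset.mem_erase.2 ⟨hxa, hx1⟩)
    · rw [h3, Finset.card_erase_of_mem (Finset.mem_union_left _ (Finset.mem_inter.1 ha).1), hUc]
  obtain ⟨g, hg0, hg1, hg⟩ : ∃ g : Fin 5, g ≠ 0 ∧ g ≠ 1 ∧ P ⊆ T g := by
    by_contra hno
    push Not at hno
    have hbad : ∀ k : Fin 5, k ≠ 0 → k ≠ 1 → ∃ a ∈ P, T k = U.erase a := fun k h0 h1 => by
      obtain ⟨a, ha, hak⟩ := Finset.not_subset.1 (hno k h0 h1)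
      exact ⟨a, ha, key k h0 h1 a ha hak⟩
    obtain ⟨a, ha, ea⟩ := hbad 2 (by decide) (by decide)
    obtain ⟨b, hb, eb⟩ := hbad 3 (by decide) (by decide)
    obtain ⟨c, hc, ec⟩ := hbad 4 (by decide) (by decide)
    have hne : ∀ i j : Fin 5, i ≠ j → T i ≠ T j := fun i j hij e => by
      have := h2 i j hij
      rw [e, Finset.inter_self, h3] at this
      omega
    obtain ⟨p, q, -, hpq⟩ := Finset.card_eq_two.1 hPc
    rw [hpq, Finset.mem_insert, Finset.mem_singleton] at ha hb hc
    have hab : a ≠ b := fun e => hne 2 3 (by decide) (by rw [ea, eb, e])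
    have hac : a ≠ c := fun e => hne 2 4 (by decide) (by rw [ea, ec, e])
    have hbc : b ≠ c := fun e => hne 3 4 (by decide) (by rw [eb, ec, e])
    rcases ha with rfl | rfl <;> rcases hb with rfl | rfl <;> rcases hc with rfl | rfl <;> simp_all
  intro i
  by_cases h0 : i = 0
  · exact h0 ▸ Finset.inter_subset_left
  by_cases h1 : i = 1
  · exact h1 ▸ Finset.inter_subset_right
  by_contra hi
  obtain ⟨a, ha, hai⟩ := Finset.not_subset.1 hi
  have e := key i h0 h1 a ha hai
  have hgi : g ≠ i := fun e' => hi (e' ▸ hg)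
  have hgU : T g ∩ U = P := by
    refine Finset.Subset.antisymm (fun x hx => ?_) fun x hx =>
      Finset.mem_inter.2 ⟨hg hx, Finset.mem_union_left _ (Finset.mem_inter.1 hx).1⟩
    have heq : ∀ j : Fin 5, g ≠ j → P ⊆ T j → T g ∩ T j = P := fun j hj hPj =>
      (Finset.eq_of_subset_of_card_le (Finset.subset_inter hg hPj) (by rw [h2 g j hj, hPc])).symm
    rcases Finset.mem_union.1 (Finset.mem_inter.1 hx).2 with hx0 | hx1
    · exact heq 0 hg0 Finset.inter_subset_left ▸ Finset.mem_inter.2 ⟨(Finset.mem_inter.1 hx).1, hx0⟩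
    · exact heq 1 hg1 Finset.inter_subset_right ▸ Finset.mem_inter.2 ⟨(Finset.mem_inter.1 hx).1, hx1⟩
  have := h2 g i hgi
  rw [e, Finset.inter_erase, hgU, Finset.card_erase_of_mem ha, hPc] at this
  omega

/-- The arithmetic. -/
theorem no_solution {X Y N p q m : ℤ} (hN : N = 1 + X + Y) (hm : m = 1 + p + q)
    (hX : (64 : ℤ) ∣ X + 3 * p - 4) (hY : (64 : ℤ) ∣ Y + 3 * q - 4) (hNm : (64 : ℤ) ∣ N + 3 * m - 12)
    (hX16 : (16 : ℤ) ∣ X - p) (hY16 : (16 : ℤ) ∣ Y - q) (hN16 : (16 : ℤ) ∣ N - m)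
    (hX2 : X ≤ -2 ∨ 2 ≤ X) (hY2 : Y ≤ -2 ∨ 2 ≤ Y)
    (hquad : X * Y * N + p ^ 2 * Y * N + q ^ 2 * X * N - m ^ 2 * X * Y = 0)
    (hnorm : 1 + p * p + q * q + 5 * (m * m) ≤ 64) : False := by
  have hm3 : (4 : ℤ) ∣ m - 3 := by omega
  have hp : (4 : ℤ) ∣ p - 1 := by omega
  have hq : (4 : ℤ) ∣ q - 1 := by omega
  have hmb : -3 ≤ m ∧ m ≤ 3 := ⟨by nlinarith, by nlinarith⟩
  have hpb : -7 ≤ p ∧ p ≤ 7 := ⟨by nlinarith, by nlinarith⟩
  have hqb : -7 ≤ q ∧ q ≤ 7 := ⟨by nlinarith, by nlinarith⟩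
  have habs : ∀ u v : ℤ, (u ≤ -v ∨ v ≤ u) → v ≤ |u| := fun u v h => by
    rcases h with h | h
    · exact le_trans (by omega) (neg_le_abs u)
    · exact le_trans h (le_abs_self u)
  have hm' : m = 3 ∨ m = -1 := by omega
  rcases hm' with rfl | rfl
  · have hcases : p = 1 ∧ q = 1 := by
      have : p = -7 ∨ p = -3 ∨ p = 1 ∨ p = 5 := by omega
      rcases this with rfl | rfl | rfl | rfl
      · nlinarith
      · have : q = 5 := by omega
        subst this; norm_num at hnorm
      · exact ⟨rfl, by omega⟩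
      · have : q = -3 := by omega
        subst this; norm_num at hnorm
    obtain ⟨rfl, rfl⟩ := hcases
    by_cases hN3 : N = 3
    · subst hN3
      have h1 : X + Y = 2 := by omega
      have hY' : Y = 2 - X := by omega
      subst hY'
      have h3 : (X - 1) * (X - 1) = 0 := by nlinarith
      have : X = 1 := by
        rcases mul_eq_zero.1 h3 with h | h <;> omega
      omega
    have hx := habs X 63 (by omega)
    have hy := habs Y 63 (by omega)
    have hn := habs N 61 (by omega)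
    have h1 : |N| * |X * Y + X + Y| = 9 * (|X| * |Y|) := by
      rw [← abs_mul, ← abs_mul, show N * (X * Y + X + Y) = 9 * (X * Y) by linear_combination hquad, abs_mul,
        show |(9 : ℤ)| = 9 from rfl]
    have h2 : |X| * |Y| - |X| - |Y| ≤ |X * Y + X + Y| := by
      have e1 := abs_sub_abs_le_abs_sub (X * Y) (-(X + Y))
      rw [abs_neg, abs_mul, sub_neg_eq_add, ← add_assoc] at e1
      linarith [abs_add_le X Y]
    nlinarith [mul_le_mul hx hy (by norm_num) (abs_nonneg X), abs_nonneg (X * Y + X + Y)]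
  · have : (p = 1 ∧ q = -3) ∨ (p = -3 ∧ q = 1) := by
      have : p = -7 ∨ p = -3 ∨ p = 1 ∨ p = 5 := by omega
      rcases this with rfl | rfl | rfl | rfl
      · have : q = 5 := by omega
        subst this; norm_num at hnorm
      · exact Or.inr ⟨rfl, by omega⟩
      · exact Or.inl ⟨rfl, by omega⟩
      · have : q = -7 := by omega
        subst this; norm_num at hnorm
    have key : ∀ U V : ℤ, (64 : ℤ) ∣ U - 1 → (64 : ℤ) ∣ V - 13 → (U ≤ -2 ∨ 2 ≤ U) →
        N * (U * V + V + 9 * U) = U * V → False := by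
      intro U V hU hV hU2 hq2
      have hx := habs U 63 (by omega)
      have hy := habs V 13 (by omega)
      have hn := habs N 15 (by omega)
      have h1 : |N| * |U * V + V + 9 * U| = |U| * |V| := by rw [← abs_mul, ← abs_mul, hq2]
      have h2 : |U| * |V| - |V| - 9 * |U| ≤ |U * V + V + 9 * U| := by
        have e1 := abs_sub_abs_le_abs_sub (U * V) (-(V + 9 * U))
        rw [abs_neg, abs_mul, sub_neg_eq_add, ← add_assoc] at e1
        have e2 := abs_add_le V (9 * U)
        rw [abs_mul, show |(9 : ℤ)| = 9 from rfl] at e2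
        linarith
      nlinarith [mul_le_mul hx hy (by norm_num) (abs_nonneg U), abs_nonneg (U * V + V + 9 * U)]
    rcases this with ⟨rfl, rfl⟩ | ⟨rfl, rfl⟩
    · exact key X Y (by omega) (by omega) hX2 (by linear_combination hquad)
    · exact key Y X (by omega) (by omega) hY2 (by linear_combination hquad)

variable {G : Type u} [Group G] [Finite G]

theorem Hyp.false {S : Sylow 2 G} (h : Hyp S) : False := by
  classical
  cases nonempty_fintype G
  obtain ⟨M, hM⟩ := Char.exists_isPModular 2 Nat.prime_two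
  obtain ⟨z, ⟨C⟩⟩ := h.exists_cols hM
  set one := trivialIrr G
  have honeB : one ∈ blk M G := Finset.mem_filter.2 ⟨Finset.mem_univ _, trivial_mem_principalBlock hM⟩
  let T : Fin 5 → Finset (IrrCharacter G) := fun i => ((blk M G).erase one).filter fun χ => C.d i χ ≠ 0
  have hrest : ∀ i j, ∑ χ ∈ (blk M G).erase one, C.d i χ * C.d j χ = if i = j then 3 else 2 := by
    intro i j
    have h1 := C.gram i j
    rw [← Finset.add_sum_erase _ _ honeB, C.one, C.one] at h1
    split_ifs with hij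
    · rw [if_pos hij] at h1; linarith
    · rw [if_neg hij] at h1; linarith
  have hpm : ∀ i, ∀ χ ∈ T i, C.d i χ = 1 ∨ C.d i χ = -1 := by
    intro i χ hχ
    obtain ⟨hmem, hne⟩ := Finset.mem_filter.1 hχ
    have h1 := Finset.single_le_sum (f := fun ξ => C.d i ξ * C.d i ξ) (fun ξ _ => mul_self_nonneg _) hmem
    rw [hrest i i, if_pos rfl] at h1
    have h2 : -2 < C.d i χ := by nlinarith
    have h3 : C.d i χ < 2 := by nlinarith
    omega
  have hT3 : ∀ i, (T i).card = 3 := by
    intro i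
    have h1 := hrest i i
    rw [if_pos rfl, ← Finset.sum_filter_of_ne (p := fun χ => C.d i χ ≠ 0)
      (fun χ _ hne h0 => hne (by rw [h0, mul_zero])),
      Finset.sum_congr rfl (g := fun _ => (1 : ℤ)) fun χ hχ => by rcases hpm i χ hχ with e | e <;> simp [e]] at h1
    rw [Finset.sum_const, nsmul_eq_mul, mul_one] at h1
    exact_mod_cast h1
  have hint : ∀ i j, i ≠ j → (T i ∩ T j).card = 2 ∧ ∀ χ ∈ T i ∩ T j, C.d i χ = C.d j χ := by
    intro i j hij
    have h1 := hrest i j
    rw [if_neg hij, ← Finset.sum_subset (s₁ := T i ∩ T j) (fun χ hχ =>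
      (Finset.mem_filter.1 (Finset.mem_inter.1 hχ).1).1) (fun χ hχ hno => by
        by_contra hne
        exact hno (Finset.mem_inter.2 ⟨Finset.mem_filter.2 ⟨hχ, left_ne_zero_of_mul hne⟩,
          Finset.mem_filter.2 ⟨hχ, right_ne_zero_of_mul hne⟩⟩))] at h1
    have hle : (T i ∩ T j).card ≤ 3 := (Finset.card_le_card Finset.inter_subset_left).trans (hT3 i).le
    have hval : ∀ χ ∈ T i ∩ T j, C.d i χ * C.d j χ = 1 ∨ C.d i χ * C.d j χ = -1 := fun χ hχ => by
      rcases hpm i χ (Finset.mem_inter.1 hχ).1 with e | e <;>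
        rcases hpm j χ (Finset.mem_inter.1 hχ).2 with e' | e' <;> simp [e, e']
    obtain hc | hc | hc | hc : (T i ∩ T j).card = 0 ∨ (T i ∩ T j).card = 1 ∨ (T i ∩ T j).card = 2 ∨
        (T i ∩ T j).card = 3 := by omega
    · rw [Finset.card_eq_zero.1 hc, Finset.sum_empty] at h1; omega
    · obtain ⟨a, ha⟩ := Finset.card_eq_one.1 hc
      have := hval a (by simp [ha])
      rw [ha, Finset.sum_singleton] at h1; omega
    · refine ⟨hc, fun χ hχ => ?_⟩
      obtain ⟨a, b, hab, he⟩ := Finset.card_eq_two.1 hc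
      have ha := hval a (by simp [he])
      have hb := hval b (by simp [he])
      rw [he, Finset.sum_pair hab] at h1
      have hprod : C.d i χ * C.d j χ = 1 := by
        rw [he, Finset.mem_insert, Finset.mem_singleton] at hχ
        rcases hχ with rfl | rfl <;> omega
      rcases Int.eq_one_or_neg_one_of_mul_eq_one' hprod with ⟨e, e'⟩ | ⟨e, e'⟩ <;> rw [e, e']
    · obtain ⟨a, b, c, hab, hac, hbc, he⟩ := Finset.card_eq_three.1 hc
      have ha := hval a (by simp [he])
      have hb := hval b (by simp [he])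
      have hc' := hval c (by simp [he])
      rw [he, Finset.sum_insert (by simp [hab, hac]), Finset.sum_pair hbc] at h1
      omega
  obtain ⟨P, hPc, hP⟩ := sunflower T hT3 fun i j hij => (hint i j hij).1
  obtain ⟨A, B, hAB, hPe⟩ := Finset.card_eq_two.1 hPc
  have hAT : ∀ i, A ∈ T i := fun i => hP i (by simp [hPe])
  have hBT : ∀ i, B ∈ T i := fun i => hP i (by simp [hPe])
  have hC : ∀ i, ∃ c, c ∈ T i ∧ c ≠ A ∧ c ≠ B ∧ T i = {A, B, c} := by
    intro i
    have h1 : (T i \ P).card = 1 := by rw [Finset.card_sdiff_of_subset (hP i), hT3, hPc]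
    obtain ⟨c, hc⟩ := Finset.card_eq_one.1 h1
    have hcm : c ∈ T i \ P := by simp [hc]
    rw [Finset.mem_sdiff, hPe, Finset.mem_insert, Finset.mem_singleton] at hcm
    push Not at hcm
    refine ⟨c, hcm.1, hcm.2.1, hcm.2.2, ?_⟩
    rw [← Finset.sdiff_union_of_subset (hP i), hc, hPe]
    ext x
    simp only [Finset.mem_union, Finset.mem_insert, Finset.mem_singleton]
    tauto
  choose c hcT hcA hcB hTc using hC
  have hcne : ∀ i j, i ≠ j → c j ∉ T i := by
    intro i j hij hmem
    have h1 : T i ∩ T j = P := (Finset.eq_of_subset_of_card_le (Finset.subset_inter (hP i) (hP j))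
      (by rw [(hint i j hij).1, hPc])).symm
    have h2 : c j ∈ P := h1 ▸ Finset.mem_inter.2 ⟨hmem, hcT j⟩
    rw [hPe, Finset.mem_insert, Finset.mem_singleton] at h2
    exact h2.elim (hcA j) (hcB j)
  have hne1 : ∀ i, ∀ χ ∈ T i, χ ≠ one := fun i χ hχ =>
    Finset.ne_of_mem_erase (Finset.mem_filter.1 hχ).1
  have hsumI : ∀ (i : Fin 5) (f : IrrCharacter G → ℤ), ∑ χ ∈ blk M G, C.d i χ * f χ =
      f one + C.d i A * f A + C.d i B * f B + C.d i (c i) * f (c i) := by
    intro i f
    rw [← Finset.add_sum_erase _ _ honeB, C.one, one_mul,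
      ← Finset.sum_filter_of_ne (p := fun χ => C.d i χ ≠ 0) (fun χ _ hne h0 => hne (by rw [h0, zero_mul])),
      show ((blk M G).erase one).filter (fun χ => C.d i χ ≠ 0) = {A, B, c i} from hTc i,
      Finset.sum_insert (by simp [hAB, (hcA i).symm]), Finset.sum_pair (hcB i).symm]
    ring
  have hsumC : ∀ (i : Fin 5) (f : IrrCharacter G → ℂ), ∑ χ ∈ blk M G, (C.d i χ : ℂ) * f χ =
      f one + C.d i A * f A + C.d i B * f B + C.d i (c i) * f (c i) := by
    intro i f
    rw [← Finset.add_sum_erase _ _ honeB, C.one, Int.cast_one, one_mul,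
      ← Finset.sum_filter_of_ne (p := fun χ => C.d i χ ≠ 0) (fun χ _ hne h0 => hne (by rw [h0, Int.cast_zero, zero_mul])),
      show ((blk M G).erase one).filter (fun χ => C.d i χ ≠ 0) = {A, B, c i} from hTc i,
      Finset.sum_insert (by simp [hAB, (hcA i).symm]), Finset.sum_pair (hcB i).symm]
    ring
  -- the signs on the common pair
  have hsame : ∀ χ, (∀ i, χ ∈ T i) → ∀ i, C.d i χ = C.d 0 χ := by
    intro χ hχ i
    by_cases hi : i = 0
    · rw [hi]
    · exact (hint i 0 hi).2 χ (Finset.mem_inter.2 ⟨hχ i, hχ 0⟩)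
  set a := C.d 0 A with ha
  set b := C.d 0 B with hb
  let η : Fin 5 → ℤ := fun i => C.d i (c i)
  have ha2 : a * a = 1 := by rcases hpm 0 A (hAT 0) with e | e <;> rw [ha, e] <;> norm_num
  have hb2 : b * b = 1 := by rcases hpm 0 B (hBT 0) with e | e <;> rw [hb, e] <;> norm_num
  have hη2 : ∀ i, η i * η i = 1 := fun i => by
    show C.d i (c i) * C.d i (c i) = 1
    rcases hpm i _ (hcT i) with e | e <;> rw [e] <;> norm_num
  let dg : IrrCharacter G → ℤ := fun χ => (charDegree (χ : G → ℂ) : ℤ)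
  have hone : dg one = 1 ∧ C.v one = 1 := by
    have h1 : ((charDegree (one : G → ℂ) : ℕ) : ℂ) = 1 := (charDeg_spec' one).symm
    have h2 : ((C.v one : ℤ) : ℂ) = 1 := (C.hv one).symm
    exact ⟨by show (charDegree (one : G → ℂ) : ℤ) = 1; exact_mod_cast h1, by exact_mod_cast h2⟩
  have hdeg : ∀ i, 1 + a * dg A + b * dg B + η i * dg (c i) = 0 := fun i => by
    have := C.deg i
    rw [hsumI, hsame A hAT i, hsame B hBT i] at this
    rw [← hone.1]
    exact this
  have hzz : ∀ i, 1 + a * C.v A + b * C.v B + η i * C.v (c i) = 0 := fun i => by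
    have := C.zz i
    rw [hsumI, hsame A hAT i, hsame B hBT i, hone.2] at this
    exact this
  -- large degrees
  have hbig : ∀ χ : IrrCharacter G, χ ≠ one → 2 ≤ dg χ := by
    intro χ hχ
    have h0 := charDeg_pos χ
    by_contra hlt
    have hd1 : charDegree (χ : G → ℂ) = 1 := by
      have : (charDegree (χ : G → ℂ) : ℤ) < 2 := not_le.1 hlt
      omega
    obtain ⟨l, hl⟩ := Char.linearHom_of_isCharacter (irr_isChar χ) (by rw [charDeg_spec', hd1, Nat.cast_one])
    refine hχ (Subtype.ext (hl.trans (funext fun g => ?_)))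
    have hk : commutator G ≤ l.ker := Abelianization.commutator_subset_ker l
    rw [h.perfect] at hk
    rw [MonoidHom.mem_ker.1 (hk (Subgroup.mem_top g)), Units.val_one]
    rfl
  -- the norm
  have hnorm : 1 + C.v A * C.v A + C.v B * C.v B + ∑ i, C.v (c i) * C.v (c i) ≤ 64 := by
    rw [← C.norm]
    have hinj : Function.Injective c := fun i j e => by
      by_contra hij
      exact hcne i j hij (e ▸ hcT i)
    have hd1 : ∀ x ∈ ({one, A, B} : Finset (IrrCharacter G)), x ∉ Finset.univ.image c := by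
      intro x hx hxc
      obtain ⟨i, -, rfl⟩ := Finset.mem_image.1 hxc
      rw [Finset.mem_insert, Finset.mem_insert, Finset.mem_singleton] at hx
      rcases hx with e | e | e
      · exact hne1 i _ (hcT i) e
      · exact hcA i e
      · exact hcB i e
    have hsub : ({one, A, B} : Finset (IrrCharacter G)) ∪ Finset.univ.image c ⊆ blk M G := by
      intro x hx
      rcases Finset.mem_union.1 hx with hx | hx
      · rw [Finset.mem_insert, Finset.mem_insert, Finset.mem_singleton] at hx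
        rcases hx with rfl | rfl | rfl
        · exact honeB
        · exact Finset.mem_of_mem_erase (Finset.mem_filter.1 (hAT 0)).1
        · exact Finset.mem_of_mem_erase (Finset.mem_filter.1 (hBT 0)).1
      · obtain ⟨i, -, rfl⟩ := Finset.mem_image.1 hx
        exact Finset.mem_of_mem_erase (Finset.mem_filter.1 (hcT i)).1
    refine le_trans (le_of_eq ?_) (Finset.sum_le_sum_of_subset_of_nonneg hsub fun χ _ _ => mul_self_nonneg _)
    rw [Finset.sum_union (Finset.disjoint_left.2 hd1), Finset.sum_insert (by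
        simp [(hne1 0 A (hAT 0)).symm, (hne1 0 B (hBT 0)).symm]), Finset.sum_pair hAB, hone.2,
      Finset.sum_image fun x _ y _ e => hinj e]
    ring
  set m : ℤ := 1 + a * C.v A + b * C.v B with hm
  have hvc : ∀ i, C.v (c i) * C.v (c i) = m * m := fun i => by
    have h1 : m = -(η i * C.v (c i)) := by rw [hm]; linarith [hzz i]
    rw [h1]
    linear_combination (-(C.v (c i) * C.v (c i))) * hη2 i
  rw [Finset.sum_congr rfl fun i _ => hvc i, Finset.sum_const, Finset.card_univ, Fintype.card_fin, nsmul_eq_mul] at hnorm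
  -- congruences
  have hdsum : ∀ χ, (∀ i, χ ∈ T i) → ∑ i, C.d i χ = 5 * C.d 0 χ := fun χ hχ => by
    rw [Finset.sum_congr rfl fun i _ => hsame χ hχ i]
    simp
  have hA1 := C.cong A
  rw [hdsum A hAT] at hA1
  have hB1 := C.cong B
  rw [hdsum B hBT] at hB1
  have hC1 := C.cong (c 0)
  rw [Finset.sum_eq_single (0 : Fin 5) (fun i _ hi => by
    by_contra hne
    exact hcne i 0 hi (Finset.mem_filter.2 ⟨(Finset.mem_filter.1 (hcT 0)).1, hne⟩))
    (fun hh => absurd (Finset.mem_univ _) hh)] at hC1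
  -- the quadratic relation
  have hA0 : (dg A : ℂ) ≠ 0 := Int.cast_ne_zero.2 (by have := hbig A (hne1 0 A (hAT 0)); omega)
  have hB0 : (dg B : ℂ) ≠ 0 := Int.cast_ne_zero.2 (by have := hbig B (hne1 0 B (hBT 0)); omega)
  have hC0 : (dg (c 0) : ℂ) ≠ 0 := Int.cast_ne_zero.2 (by have := hbig (c 0) (hne1 0 _ (hcT 0)); omega)
  have hq := C.quad 0
  rw [hsumC] at hq
  have h1' : (C.v one : ℂ) ^ 2 / (charDegree (one : G → ℂ) : ℂ) = 1 := by
    rw [hone.2, show ((charDegree (one : G → ℂ) : ℕ) : ℂ) = ((dg one : ℤ) : ℂ) from (Int.cast_natCast _).symm, hone.1]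
    norm_num
  rw [h1', show ((charDegree (A : G → ℂ) : ℕ) : ℂ) = ((dg A : ℤ) : ℂ) from (Int.cast_natCast _).symm,
    show ((charDegree (B : G → ℂ) : ℕ) : ℂ) = ((dg B : ℤ) : ℂ) from (Int.cast_natCast _).symm,
    show ((charDegree (c 0 : G → ℂ) : ℕ) : ℂ) = ((dg (c 0) : ℤ) : ℂ) from (Int.cast_natCast _).symm,
    ← ha, ← hb, show C.d 0 (c 0) = η 0 from rfl] at hq
  field_simp at hq
  have hqZ : dg A * dg B * dg (c 0) + a * C.v A ^ 2 * dg B * dg (c 0) + b * C.v B ^ 2 * dg A * dg (c 0) +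
      η 0 * C.v (c 0) ^ 2 * dg A * dg B = 0 := by
    have : ((dg A * dg B * dg (c 0) + a * C.v A ^ 2 * dg B * dg (c 0) + b * C.v B ^ 2 * dg A * dg (c 0) +
      η 0 * C.v (c 0) ^ 2 * dg A * dg B : ℤ) : ℂ) = ((0 : ℤ) : ℂ) := by
      push_cast
      linear_combination hq
    exact_mod_cast this
  have hdeg0 := hdeg 0
  have hzz0 := hzz 0
  have hA16 := C.cong16 A
  have hB16 := C.cong16 B
  have hC16 := C.cong16 (c 0)
  have hbA := hbig A (hne1 0 A (hAT 0))
  have hbB := hbig B (hne1 0 B (hBT 0))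
  refine no_solution (X := a * dg A) (Y := b * dg B) (N := -(η 0 * dg (c 0))) (p := a * C.v A) (q := b * C.v B)
    (m := m) (by linarith) hm ?_ ?_ ?_ ?_ ?_ ?_ ?_ ?_ ?_ ?_
  all_goals simp only [dg] at *
  · refine ⟨a * C.a A - 1, ?_⟩
    linear_combination a * hA1 - 60 * ha2
  · refine ⟨b * C.a B - 1, ?_⟩
    linear_combination b * hB1 - 60 * hb2
  · refine ⟨-(η 0) * C.a (c 0), ?_⟩
    rw [show m = -(η 0 * C.v (c 0)) by rw [hm]; linarith]
    linear_combination (-(η 0)) * hC1 + 12 * hη2 0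
  · rw [← mul_sub]; exact hA16.mul_left a
  · rw [← mul_sub]; exact hB16.mul_left b
  · rw [show m = -(η 0 * C.v (c 0)) by rw [hm]; linarith, ← neg_sub', ← mul_sub]
    exact (hC16.mul_left _).neg_right
  · rcases hpm 0 A (hAT 0) with e | e <;> rw [ha, e] <;> omega
  · rcases hpm 0 B (hBT 0) with e | e <;> rw [hb, e] <;> omega
  · rw [show m = -(η 0 * C.v (c 0)) by rw [hm]; linarith]
    linear_combination (-(a * b * η 0)) * hqZ
  · push_cast at hnorm
    calc 1 + a * C.v A * (a * C.v A) + b * C.v B * (b * C.v B) + 5 * (m * m)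
        = 1 + C.v A * C.v A + C.v B * C.v B + 5 * (m * m) := by
          linear_combination (C.v A * C.v A) * ha2 + (C.v B * C.v B) * hb2
      _ ≤ 64 := hnorm

end Cfsg.Agent.Transfer.UnitaryFour
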