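import Cfsg.Agent.Lib.Transfer.UnitaryFour.Height
import Cfsg.Agent.Lib.Transfer.UnitaryFour.Exclude
import Cfsg.Agent.Lib.Invol.GW.Consumers.CentralFour
import Cfsg.Agent.Lib.Invol.QDWCentralizer
import Cfsg.Agent.Lib.Local.CoreConsumers.Main
import Cfsg.Agent.Lib.Grp.SuzIdent.CIT
import Cfsg.Agent.Lib.OddUse.Wrap
import Cfsg.Agent.Lib.Fus.TransitivityOdd
import Cfsg.Agent.S0144
import Cfsg.Agent.S0483
import Cfsg.Agent.S1221
import Cfsg.Agent.S0205

/-!
# Simple groups whose centralisers of involutions have normal 2-complements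
-/

set_option autoImplicit false
set_option linter.style.haveILetI false
set_option linter.unusedSectionVars false

namespace Cfsg.Agent.Transfer.UnitaryFour

open Subgroup

universe u

variable {G : Type u} [Group G] [Finite G]

theorem index_ne_two [IsSimpleGroup G] (hG : ¬ IsMulCommutative G) (H : Subgroup G) : H.index ≠ 2 := by
  intro hH
  haveI : Fact (Nat.Prime 2) := ⟨Nat.prime_two⟩
  rcases (Subgroup.normal_of_index_eq_two hH).eq_bot_or_eq_top with rfl | rfl
  · rw [Subgroup.index_bot] at hH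
    haveI : IsCyclic G := isCyclic_of_prime_card hH
    exact hG ⟨⟨fun a b => IsCyclic.commutative.is_comm.comm a b⟩⟩
  · rw [Subgroup.index_top] at hH
    omega

/-- A subgroup without subgroup of index 2 of a group with a normal 2-complement has odd order. -/
theorem odd_of_no_index_two {C : Type u} [Group C] [Finite C] (hC : Cfsg.HasNormalPComplement 2 C)
    (K : Subgroup C) (hK : ∀ H : Subgroup ↥K, H.index ≠ 2) : ¬ 2 ∣ Nat.card K := by
  haveI : Fact (Nat.Prime 2) := ⟨Nat.prime_two⟩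
  obtain ⟨N, hN, hd, k, hk⟩ := hasNormalPComplement_iff_exists.1 (hasNormalPComplement_subgroup K hC)
  haveI := hN
  rcases Nat.eq_zero_or_pos k with rfl | hk0
  · rw [pow_zero, Subgroup.index_eq_one] at hk
    rwa [hk, Subgroup.card_top] at hd
  · obtain ⟨H, hH⟩ := Invol.exists_index_two_of_two_pow hk0 hk
    exact absurd hH (hK H)

theorem not_quaternion_centralizer {u : G} (hI : Cfsg.HasNormalPComplement 2 ↥(centralizer ({u} : Set G)))
    (K : Subgroup ↥(centralizer ({u} : Set G))) (hK : ∀ H : Subgroup ↥K, H.index ≠ 2)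
    (hP : ∀ P : Sylow 2 ↥K, ∃ m : ℕ, 1 ≤ m ∧ Nonempty ((P : Subgroup ↥K) ≃* QuaternionGroup (2 ^ m))) :
    False := by
  obtain ⟨P⟩ : Nonempty (Sylow 2 ↥K) := inferInstance
  obtain ⟨m, -, ⟨e⟩⟩ := hP P
  haveI : NeZero (2 ^ m) := ⟨(Nat.two_pow_pos m).ne'⟩
  refine odd_of_no_index_two hI K hK (dvd_trans ?_ (P : Subgroup ↥K).card_subgroup_dvd_card)
  rw [Nat.card_congr e.toEquiv, Nat.card_eq_fintype_card, QuaternionGroup.card]
  exact dvd_mul_of_dvd_left (by norm_num) _

/-- The elementary subgroup of order at least eight inside the Sylow subgroup. -/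
theorem exists_eight (S : Sylow 2 G) (h : ¬ Cfsg.PRankLE 2 2 G) :
    ∃ E : Subgroup ↥(S : Subgroup G), Cfsg.IsElementaryAbelian 2 E ∧ 8 ≤ Nat.card E := by
  haveI : Fact (Nat.Prime 2) := ⟨Nat.prime_two⟩
  simp only [Cfsg.PRankLE, not_forall, not_le] at h
  obtain ⟨A, hA, hA2, hc⟩ := h
  have hAe : Cfsg.IsElementaryAbelian 2 A := ⟨hA, hA2⟩
  have hp := eq_one_or_two hAe
  obtain ⟨k, hk⟩ := IsPGroup.iff_card.1 hp
  rw [hk] at hc
  have hk3 : 3 ≤ k := (Nat.pow_lt_pow_iff_right (le_refl 2)).1 hc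
  obtain ⟨T, hT⟩ := hp.exists_le_sylow
  obtain ⟨g, hg⟩ := MulAction.exists_smul_eq G T S
  have hAS : A.map (MulAut.conj g).toMonoidHom ≤ (S : Subgroup G) := by
    rw [← hg, Sylow.coe_subgroup_smul]
    exact Subgroup.map_mono hT
  have hB := CoreConsumers.elemAb_map (MulAut.conj g).toMonoidHom hAe
  refine ⟨(A.map (MulAut.conj g).toMonoidHom).subgroupOf (S : Subgroup G),
    ⟨⟨⟨fun a b => Subtype.ext (Subtype.ext (Grp.elemAb_comm hB _ a.2 _ b.2))⟩⟩,
      fun a ha => Subtype.ext (hB.2 _ ha)⟩, ?_⟩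
  rw [Nat.card_congr (subgroupOfEquivOfLe hAS).toEquiv, card_map_of_injective (MulAut.conj g).injective, hk]
  exact le_trans (show (8 : ℕ) ≤ 2 ^ 3 by norm_num) (Nat.pow_le_pow_right two_pos hk3)

/-- In 2-rank at least three all centralisers of involutions are 2-groups. -/
theorem isCIT_of_rank_three [IsSimpleGroup G] (hG : ¬ IsMulCommutative G)
    (hI : ∀ t : G, orderOf t = 2 → Cfsg.HasNormalPComplement 2 ↥(centralizer ({t} : Set G)))
    (h3 : ¬ Cfsg.PRankLE 2 2 G) : CIT.IsCIT G := by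
  haveI : Fact (Nat.Prime 2) := ⟨Nat.prime_two⟩
  obtain ⟨S⟩ : Nonempty (Sylow 2 G) := inferInstance
  obtain ⟨E, hE, h8⟩ := exists_eight S h3
  have hcon : ∀ t : G, orderOf t = 2 → Cfsg.IsPConstrained 2 ↥(centralizer ({t} : Set G)) := fun t ht => by
    obtain ⟨N, hN, hd, k, hk⟩ := hasNormalPComplement_iff_exists.1 (hI t ht)
    haveI := hN
    haveI : Group.IsSolvable N := Cfsg.Agent.S0205.result (Nat.odd_iff.2 (by omega))
    haveI : Group.IsNilpotent (↥(centralizer ({t} : Set G)) ⧸ N) :=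
      (IsPGroup.of_card (p := 2) (by rw [← Subgroup.index_eq_card, hk])).isNilpotent
    exact Fus.TransOdd.isPConstrained_of_solvable (solvable_of_ker_le_range N.subtype (QuotientGroup.mk' N)
      (by rw [QuotientGroup.ker_mk', Subgroup.range_subtype]))
  intro t ht
  have hO : Cfsg.oddCore G = ⊥ :=
    Invol.GW.CentralFour.pPrimeCore_eq_bot
      (even_iff_two_dvd.1 (Invol.GW.CentralFour.even_of_simple hG))
  have hcore := CoreConsumers.core_trivial (fun M hM => Cfsg.Agent.S1221.result M hM)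
    (fun K _ _ h => Cfsg.Agent.S0205.result h) hO (CoreConsumers.constrained_locals hcon) S
    (connected_of_two_nilpotent (index_ne_two hG) hI S E hE h8)
    (fun h => by
      have := h E hE.1 hE.2
      omega) t ht
  obtain ⟨N, hN, hd, k, hk⟩ := hasNormalPComplement_iff_exists.1 (hI t ht)
  have hNbot : N = ⊥ :=
    (Subgroup.map_eq_bot_iff_of_injective _ (Subgroup.subtype_injective _)).1
      (le_bot_iff.1 (hcore ▸ Subgroup.map_mono (Grp.le_pPrimeCore hN
        ((Fact.out : Nat.Prime 2).coprime_iff_not_dvd.2 hd).symm)))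
  rw [hNbot, Subgroup.index_bot] at hk
  exact IsPGroup.of_card hk

theorem three_lt_card [IsSimpleGroup G] (hG : ¬ IsMulCommutative G) {F : Type} [Field F] [Fintype F]
    (e : G ≃* Matrix.ProjectiveSpecialLinearGroup (Fin 2) F) : 3 < Fintype.card F := by
  by_contra h3
  have h1 := Fintype.one_lt_card (α := F)
  have hsolv : Group.IsSolvable G := by
    rcases (show Fintype.card F = 2 ∨ Fintype.card F = 3 by omega) with h | h
    · have hc := Invol.GW.HallNumbers.card_psl_two_pow (F := F) (by rw [h]; exact even_two)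
      rw [← Nat.card_congr e.toEquiv, h] at hc
      exact Cfsg.Agent.S0144.result 2 3 1 1 Nat.prime_two Nat.prime_three (by omega)
    · have hc := Invol.GW.Klein.PSL.card_mul (F := F) ⟨1, h⟩
      rw [← Nat.card_congr e.toEquiv, h] at hc
      exact Cfsg.Agent.S0144.result 2 3 2 1 Nat.prime_two Nat.prime_three (by omega)
  exact hG ⟨⟨fun a b => IsSimpleGroup.comm_iff_isSolvable.2 hsolv a b⟩⟩

theorem classification [IsSimpleGroup G] (hG : ¬ IsMulCommutative G)
    (hI : ∀ t : G, orderOf t = 2 → Cfsg.HasNormalPComplement 2 ↥(centralizer ({t} : Set G))) :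
    (∃ (F : Type) (_ : Field F) (_ : Fintype F), 3 < Fintype.card F ∧
        Nonempty (G ≃* Matrix.ProjectiveSpecialLinearGroup (Fin 2) F)) ∨
      Cfsg.Lie.IsoSuzuki G ∨ Nonempty (G ≃* ↥(alternatingGroup (Fin 7))) ∨
      (∃ (F : Type) (_ : Field F) (_ : Fintype F), Fintype.card F = 4 ∧
        Nonempty (G ≃* Matrix.ProjectiveSpecialLinearGroup (Fin 3) F)) := by
  haveI : Fact (Nat.Prime 2) := ⟨Nat.prime_two⟩
  by_cases h2 : Cfsg.PRankLE 2 2 G
  · letI : Fintype (GaloisField 2 4) := Fintype.ofFinite _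
    have hF : Fintype.card (GaloisField 2 4) = 16 := by
      rw [← Nat.card_eq_fintype_card, GaloisField.card 2 4 (by norm_num)]
      norm_num
    obtain ⟨P⟩ : Nonempty (Sylow 2 (Cfsg.PSU 3 (GaloisField 2 4) 4)) := inferInstance
    obtain ⟨S⟩ : Nonempty (Sylow 2 G) := inferInstance
    rcases OddUse.simple_rank_two_sylow hG (Invol.GW.CentralFour.even_of_simple hG) h2 S hF P with
      ⟨n, hn, he⟩ | h | h | ⟨⟨e⟩⟩
    · rcases Invol.GW.CentralFour.simple_model (fun {X} _ _ _ T m hm hT => Cfsg.Agent.S0483.result T m hm hT)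
        hG S hn he with ⟨F, i1, i2, -, h3, hiso⟩ | h7
      · exact Or.inl ⟨F, i1, i2, h3, hiso⟩
      · exact Or.inr (Or.inr (Or.inl h7))
    · obtain ⟨n, x, y, hd⟩ := Invol.exists_qd h
      obtain ⟨-, -, ⟨K, -, -, hK, hP⟩, -⟩ := hd.centralizer_structure (index_ne_two hG) rfl
      refine (not_quaternion_centralizer (hI _ ?_) K hK hP).elim
      rw [Subgroup.orderOf_coe]
      exact hd.orderOf_z
    · obtain ⟨n, x, y, z, hd⟩ := Invol.exists_wr h
      obtain ⟨-, -, ⟨K, -, -, hK, hP⟩, -⟩ := hd.centralizer_structure (index_ne_two hG) rfl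
      refine (not_quaternion_centralizer (hI _ ?_) K hK hP).elim
      rw [Invol.WR.gE, Subgroup.orderOf_coe]
      exact hd.orderOf_w
    · exact ((⟨shape_of_sylow hF P e, (Invol.GW.CentralFour.perfect_of_simple hG).commutator_eq_top, hI⟩ :
        Hyp S)).false.elim
  · rcases (isCIT_of_rank_three hG hI h2).classification_iso hG with ⟨F, i1, i2, -, ⟨e⟩⟩ | h | h
    · exact Or.inl ⟨F, i1, i2, three_lt_card hG e, ⟨e⟩⟩
    · exact Or.inr (Or.inr (Or.inr h))
    · exact Or.inr (Or.inl h)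

end Cfsg.Agent.Transfer.UnitaryFour
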