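import Cfsg.Agent.Lib.Block.CentreFreeTwo.Model
import Cfsg.Agent.Lib.Char.CohDescent
import Cfsg.Agent.Lib.Char.Constituent
import Cfsg.Agent.Lib.Char.Kernel

/-!
# The shape of a Sylow 2-subgroup of `PSU(3, 4)` and its characters

A group of order 64 whose centre is a four-group containing all involutions, squares and commutators, and in
which every class outside the centre is a coset of the centre.
-/

set_option autoImplicit false
set_option linter.unusedSectionVars false

open scoped ComplexConjugate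

namespace Cfsg.Agent.Transfer.UnitaryFour

open Cfsg Subgroup

universe u

/-- The shape. -/
structure Shape (T : Type*) [Group T] : Prop where
  card : Nat.card T = 64
  centre : Nat.card (center T) = 4
  exp : ∀ x ∈ center T, x * x = 1
  sq : ∀ x : T, x * x ∈ center T
  inv : ∀ x : T, x * x = 1 → x ∈ center T
  comm : ∀ a b : T, a * b * a⁻¹ * b⁻¹ ∈ center T
  full : ∀ x : T, x ∉ center T → ∀ v ∈ center T, ∃ y : T, y * x * y⁻¹ = v * x

theorem mem_center_map {T U : Type*} [Group T] [Group U] (e : T ≃* U) {x : T} :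
    e x ∈ center U ↔ x ∈ center T := by
  rw [mem_center_iff, mem_center_iff]
  exact ⟨fun h g => e.injective (by rw [map_mul, map_mul]; exact h (e g)), fun h g => by
    obtain ⟨g, rfl⟩ := e.surjective g
    rw [← map_mul, h g, map_mul]⟩

theorem Shape.of_equiv {T U : Type*} [Group T] [Group U] (e : T ≃* U) (h : Shape U) : Shape T where
  card := (Nat.card_congr e.toEquiv).trans h.card
  centre := by
    rw [← h.centre]
    exact Nat.card_congr (e.toEquiv.subtypeEquiv fun x => (mem_center_map e).symm)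
  exp x hx := e.injective (by rw [map_mul, h.exp _ ((mem_center_map e).2 hx), map_one])
  sq x := (mem_center_map e).1 (by rw [map_mul]; exact h.sq _)
  inv x hx := (mem_center_map e).1 (h.inv _ (by rw [← map_mul, hx, map_one]))
  comm a b := (mem_center_map e).1 (by simpa using h.comm (e a) (e b))
  full x hx v hv := by
    obtain ⟨y, hy⟩ := h.full (e x) (fun hh => hx ((mem_center_map e).1 hh)) (e v) ((mem_center_map e).2 hv)
    exact ⟨e.symm y, e.injective (by simpa using hy)⟩

open Cfsg.Agent.Recog.SU3Two in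
theorem shape_UT {F : Type*} [Field F] [Fintype F] [CharP F 2] [hF : Fact (Fintype.card F = 4 ^ 2)] :
    Shape (UT F 4) where
  card := by rw [UT.card]; norm_num
  centre := UT.card_center
  exp x hx := by
    rw [← pow_two]
    exact (UT.sq_eq_one_iff' x).2 ((UT.mem_center_iff x).1 hx)
  sq x := (UT.mem_center_iff _).2 (by rw [UT.mul_a, CharTwo.add_self_eq_zero])
  inv x hx := (UT.mem_center_iff x).2 ((UT.sq_eq_one_iff' x).1 ((pow_two x).trans hx))
  comm a b := (UT.mem_center_iff _).2 (by
    have hi : ∀ u : UT F 4, u⁻¹.a = u.a := fun u => rfl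
    rw [UT.mul_a, UT.mul_a, UT.mul_a, hi, hi]
    linear_combination (a.a + b.a) * CharTwo.two_eq_zero (R := F))
  full x hx v hv := by
    rw [UT.mem_center_iff] at hx hv
    obtain ⟨w, hw⟩ := exists_trq_one (F := F) (q := 4)
    have hk : v.b ^ 4 = v.b := by
      have h1 := v.eq
      rw [hv, zero_mul, CharTwo.add_eq_zero] at h1
      exact h1.symm
    have hc : x.a ^ 4 ≠ 0 := pow_ne_zero _ hx
    obtain ⟨y, hy⟩ := UT.exists_mk (q := 4) (v.b * w / x.a ^ 4)
    refine ⟨y, ?_⟩
    rw [mul_inv_eq_iff_eq_mul]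
    have hx16 : (x.a ^ 4) ^ 4 = x.a := pq_pq x.a
    have hy4 : y.a ^ 4 = v.b * w ^ 4 / x.a := by rw [hy, div_pow, mul_pow, hk, hx16]
    refine UT.ext ?_ ?_
    · rw [UT.mul_a, UT.mul_a, UT.mul_a, hv]; ring
    · rw [UT.mul_b, UT.mul_b, UT.mul_b, UT.mul_a, hv, hy4, hy, zero_pow (by norm_num), zero_add]
      field_simp
      linear_combination v.b * hw - (v.b * w) * CharTwo.two_eq_zero (R := F)

/-- A group isomorphic to a Sylow 2-subgroup of `PSU(3, 4)`. -/
theorem shape_of_sylow {T : Type*} [Group T] {K : Type*} [Field K] [Fintype K] (hK : Fintype.card K = 16)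
    (P : Sylow 2 (Cfsg.PSU 3 K 4)) (e : T ≃* ↥(P : Subgroup (Cfsg.PSU 3 K 4))) : Shape T := by
  haveI : Fact (Fintype.card K = 4 ^ 2) := ⟨by rw [hK]; norm_num⟩
  haveI : CharP K 2 := Cfsg.Agent.Recog.SU3Two.charP_two (m := 4) (by rw [hK]; norm_num)
  obtain ⟨e'⟩ := Cfsg.Agent.Recog.SU3Two.sylow_psu (n := 2) (q := 4) rfl (by norm_num) P
  exact Shape.of_equiv (e.trans e'.symm) shape_UT

section Chars

variable {T : Type u} [Group T] [Fintype T] [DecidableEq T] (h : Shape T)

/-- The sum of a function over the centre. -/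
noncomputable def censum (f : T → ℂ) : ℂ := by
  classical exact ∑ v ∈ Finset.univ.filter (· ∈ center T), f v

include h

theorem center_card' [DecidablePred (· ∈ center T)] :
    ((Finset.univ : Finset T).filter (· ∈ center T)).card = 4 := by
  rw [← h.centre, Nat.card_eq_fintype_card, Fintype.card_subtype]

theorem commutator_le_center : commutator T ≤ center T := by
  rw [commutator_def, commutator_le]
  intro a _ b _
  rw [commutatorElement_def]
  exact h.comm a b

/-- Linear and trivial on the centre, or of degree four and vanishing outside the centre. -/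
theorem irr_cases (ψ : IrrCharacter T) :
    ((ψ : T → ℂ) 1 = 1 ∧ ∀ v ∈ center T, (ψ : T → ℂ) v = 1) ∨
      ((ψ : T → ℂ) 1 = 4 ∧ censum (ψ : T → ℂ) = 0) := by
  classical
  obtain ⟨d, hd⟩ := Char.IsChar.one_eq_nat (Char.IsIrr.isCharacter ψ.2)
  have hsc : ∀ v ∈ center T, ∃ c : ℂ, ‖c‖ = 1 ∧ ∀ g, (ψ : T → ℂ) (v * g) = c * (ψ : T → ℂ) g := fun v hv =>
    Char.IsIrr.scalar_of_center ψ.2 hv
  choose c hc1 hc using hsc
  by_cases hall : ∀ v (hv : v ∈ center T), c v hv = 1
  · have hk : ∀ v ∈ center T, (ψ : T → ℂ) v = (ψ : T → ℂ) 1 := fun v hv => by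
      have := hc v hv 1
      rwa [mul_one, hall v hv, one_mul] at this
    have h1 := Char.Descent.one_of_commutator ψ.2 fun k hk' => hk k (commutator_le_center h hk')
    exact Or.inl ⟨h1, fun v hv => (hk v hv).trans h1⟩
  right
  push Not at hall
  obtain ⟨v₀, hv₀, hne⟩ := hall
  have hoff : ∀ y : T, y ∉ center T → (ψ : T → ℂ) y = 0 := by
    intro y hy
    obtain ⟨w, hw⟩ := h.full y hy v₀ hv₀
    have h1 := hc v₀ hv₀ y
    rw [← hw, Char.IsIrr.classFun ψ.2 y w] at h1
    by_contra h0
    exact hne (mul_right_cancel₀ h0 ((one_mul _).trans h1).symm)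
  have hnorm : ∀ v ∈ center T, (ψ : T → ℂ) v * conj ((ψ : T → ℂ) v) = (d : ℂ) ^ 2 := by
    intro v hv
    have h1 := hc v hv 1
    rw [mul_one, hd] at h1
    rw [h1, map_mul, Complex.conj_natCast, mul_mul_mul_comm, Complex.mul_conj, Complex.normSq_eq_norm_sq, hc1 v hv]
    push_cast
    ring
  have hsum : ∑ k : T, (ψ : T → ℂ) k * conj ((ψ : T → ℂ) k) = 64 := by
    have h1 := Char.classInner_self_irr ψ.2
    rw [classInner, inv_mul_eq_iff_eq_mul₀ (Nat.cast_ne_zero.mpr Nat.card_pos.ne'), mul_one, h.card] at h1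
    exact_mod_cast h1
  rw [← Finset.sum_filter_add_sum_filter_not Finset.univ (· ∈ center T),
    Finset.sum_eq_zero (s := Finset.univ.filter fun y => ¬ y ∈ center T) (fun y hy => by
      rw [hoff y (Finset.mem_filter.1 hy).2, zero_mul]), add_zero,
    Finset.sum_congr rfl fun v hv => hnorm v (Finset.mem_filter.1 hv).2, Finset.sum_const, center_card' h,
    nsmul_eq_mul] at hsum
  have hd4 : d = 4 := by
    have h1 : ((4 * d ^ 2 : ℕ) : ℂ) = ((64 : ℕ) : ℂ) := by push_cast; exact hsum
    have h2 : d ^ 2 = 4 ^ 2 := by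
      have := Nat.cast_injective h1
      omega
    exact Nat.pow_left_injective two_ne_zero h2
  refine ⟨by rw [hd, hd4]; norm_num, ?_⟩
  have hshift : censum (ψ : T → ℂ) = c v₀ hv₀ * censum (ψ : T → ℂ) := by
    simp only [censum, Finset.mul_sum]
    refine (Finset.sum_bij (fun v _ => v₀ * v) (fun v hv => ?_) (fun a _ b _ e => mul_left_cancel e)
      (fun b hb => ⟨v₀⁻¹ * b, ?_, mul_inv_cancel_left v₀ b⟩) fun v _ => (hc v₀ hv₀ v).symm).symm
    · exact Finset.mem_filter.2 ⟨Finset.mem_univ _, mul_mem hv₀ (Finset.mem_filter.1 hv).2⟩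
    · exact Finset.mem_filter.2 ⟨Finset.mem_univ _, mul_mem (inv_mem hv₀) (Finset.mem_filter.1 hb).2⟩
  by_contra h0
  exact hne (mul_right_cancel₀ h0 ((one_mul _).trans hshift)).symm

/-- The degree and the linear part of a character differ by a multiple of four. -/
theorem exists_rest {φ : T → ℂ} (hφ : IsCharacter T φ) : ∃ n : ℕ, φ 1 = censum φ / 4 + 4 * n := by
  classical
  obtain ⟨b, -, hb⟩ := Char.IsChar.exists_decomp_inner hφ
  refine ⟨∑ ψ : IrrCharacter T, if (ψ : T → ℂ) 1 = 1 then 0 else b ψ, ?_⟩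
  have hcs : censum φ = ∑ ψ : IrrCharacter T, (b ψ : ℂ) * censum (ψ : T → ℂ) := by
    simp only [censum, hb, Finset.sum_apply, Pi.smul_apply, smul_eq_mul, Finset.mul_sum]
    exact Finset.sum_comm
  rw [hcs, Finset.sum_div, Nat.cast_sum, Finset.mul_sum, ← Finset.sum_add_distrib,
    show φ 1 = ∑ ψ : IrrCharacter T, (b ψ : ℂ) * (ψ : T → ℂ) 1 by
      rw [hb]; simp [Finset.sum_apply]]
  refine Finset.sum_congr rfl fun ψ _ => ?_
  rcases irr_cases h ψ with ⟨h1, hv⟩ | ⟨h1, hv⟩
  · rw [if_pos h1, h1, Nat.cast_zero, mul_zero, add_zero]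
    simp only [censum]
    rw [Finset.sum_congr rfl fun v hv' => hv v (Finset.mem_filter.1 hv').2, Finset.sum_const, center_card' h]
    simp
  · rw [if_neg (by rw [h1]; norm_num), h1, hv]
    ring

open Classical in
/-- The linear characters trivial on the centre. -/
theorem linear_sum (y : T) :
    ∑ ψ ∈ Finset.univ.filter (fun ψ : IrrCharacter T => (ψ : T → ℂ) 1 = 1), (ψ : T → ℂ) y =
      if y ∈ center T then 16 else 0 := by
  classical
  set f : T → ℂ := fun g => if g ∈ center T then 16 else 0 with hf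
  have hfc : IsClassFunction T f := fun g t => by
    simp only [hf]
    refine if_congr ⟨fun hh => ?_, fun hh => Subgroup.Normal.conj_mem inferInstance g hh t⟩ rfl rfl
    simpa [mul_assoc] using Subgroup.Normal.conj_mem (inferInstance : (center T).Normal) _ hh t⁻¹
  have key : ∀ ψ : IrrCharacter T, classInner f (ψ : T → ℂ) = if (ψ : T → ℂ) 1 = 1 then 1 else 0 := by
    intro ψ
    have h1 : classInner f (ψ : T → ℂ) = 16 / 64 * conj (censum (ψ : T → ℂ)) := by
      simp only [classInner, hf, censum, ite_mul, zero_mul, h.card]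
      rw [← Finset.sum_filter, ← Finset.mul_sum, map_sum]
      push_cast
      ring
    rw [h1]
    rcases irr_cases h ψ with ⟨e1, hv⟩ | ⟨e1, hv⟩
    · rw [if_pos e1]
      simp only [censum]
      rw [Finset.sum_congr rfl fun v hv' => hv v (Finset.mem_filter.1 hv').2, Finset.sum_const, center_card' h]
      rw [nsmul_eq_mul, mul_one, Complex.conj_natCast]
      norm_num
    · rw [if_neg (by rw [e1]; norm_num), hv, map_zero, mul_zero]
  have h2 := congrFun (Char.classFunction_expansion hfc) y
  rw [Finset.sum_apply] at h2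
  simp only [Pi.smul_apply, smul_eq_mul, key, ite_mul, one_mul, zero_mul, ← Finset.sum_filter] at h2
  exact h2.symm

end Chars

end Cfsg.Agent.Transfer.UnitaryFour
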