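import Cfsg.Agent.Lib.Transfer.UnitaryFour.Local
import Mathlib.RingTheory.IntegralDomain

/-!
# The rotation of the normalizer and the five orbits on the linear characters
-/

set_option autoImplicit false
set_option linter.unusedSectionVars false
set_option linter.style.haveILetI false

open scoped ComplexConjugate

namespace Cfsg.Agent.Transfer.UnitaryFour

open Cfsg Subgroup

universe u

variable {G : Type u} [Group G] [Finite G]

/-- A central involution and an element of the normalizer moving it. -/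
structure Rot (S : Sylow 2 G) (z m : G) : Prop where
  hz : z ∈ cen S
  hz1 : z ≠ 1
  hm : m ∈ normalizer ((S : Subgroup G) : Set G)
  move : m * z ≠ z * m

variable {S : Sylow 2 G}

theorem Hyp.exists_rot (h : Hyp S) : ∃ z m : G, Rot S z m := by
  obtain ⟨⟨z, hz⟩, hz1⟩ := Subgroup.ne_bot_iff_exists_ne_one.1 (show cen S ≠ ⊥ from fun e => by
    have := h.card_cen
    rw [e, Subgroup.card_bot] at this
    omega)
  have hz1' : z ≠ 1 := fun e => hz1 (Subtype.ext e)
  obtain ⟨m, hm, hmz⟩ := h.exists_mover hz hz1'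
  exact ⟨z, m, hz, hz1', hm, hmz⟩

namespace Rot

variable {z m : G} (r : Rot S z m) (h : Hyp S)
include r

/-- The three central involutions. -/
theorem pow_mem_cen (i : ℕ) : m ^ i * z * (m ^ i)⁻¹ ∈ cen S := Hyp.cen_normal (pow_mem r.hm i) r.hz

theorem pow_ne_one (i : ℕ) : m ^ i * z * (m ^ i)⁻¹ ≠ 1 := fun e => r.hz1 (conj_eq_one_iff.1 e)

include h

theorem conj_ne {i : ℕ} (hi : i = 1 ∨ i = 2) : m ^ i * z * (m ^ i)⁻¹ ≠ z := by
  rcases hi with rfl | rfl
  · rw [pow_one]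
    exact fun e => r.move (mul_inv_eq_iff_eq_mul.1 e)
  intro e
  -- the third involution would be fixed
  have h1 := r.pow_mem_cen 1
  rw [pow_one] at h1
  set z₁ := m * z * m⁻¹ with hz₁
  have hw : z * z₁ ∈ cen S := mul_mem r.hz h1
  have hw1 : z * z₁ ≠ 1 := fun e1 => r.move (mul_inv_eq_iff_eq_mul.1 (by
    rw [← hz₁, eq_inv_of_mul_eq_one_right e1, inv_eq_of_mul_eq_one_right (h.cen_sq r.hz)]))
  have hmw : m * (z * z₁) = z * z₁ * m := by
    refine mul_inv_eq_iff_eq_mul.1 ?_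
    calc m * (z * z₁) * m⁻¹ = z₁ * (m ^ 2 * z * (m ^ 2)⁻¹) := by rw [hz₁, pow_two]; group
      _ = z₁ * z := by rw [e]
      _ = z * z₁ := comm_of_cen h1 (cen_le r.hz)
  exact r.move (h.fix_cen hw hw1 r.hz r.hm hmw)

theorem inj {i j : Fin 3} (e : m ^ (i : ℕ) * z * (m ^ (i : ℕ))⁻¹ = m ^ (j : ℕ) * z * (m ^ (j : ℕ))⁻¹) : i = j := by
  have key : ∀ a b : Fin 3, (a : ℕ) < b → m ^ (a : ℕ) * z * (m ^ (a : ℕ))⁻¹ ≠ m ^ (b : ℕ) * z * (m ^ (b : ℕ))⁻¹ := by
    intro a b hab e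
    refine r.conj_ne h (i := (b : ℕ) - a) (by omega) ?_
    have e1 : m ^ (b : ℕ) = m ^ (a : ℕ) * m ^ ((b : ℕ) - a) := by rw [← pow_add]; congr 1; omega
    rw [e1] at e
    calc m ^ ((b : ℕ) - a) * z * (m ^ ((b : ℕ) - a))⁻¹
        = (m ^ (a : ℕ))⁻¹ * (m ^ (a : ℕ) * m ^ ((b : ℕ) - a) * z * (m ^ (a : ℕ) * m ^ ((b : ℕ) - a))⁻¹) * m ^ (a : ℕ) := by
          group
      _ = (m ^ (a : ℕ))⁻¹ * (m ^ (a : ℕ) * z * (m ^ (a : ℕ))⁻¹) * m ^ (a : ℕ) := by rw [e]
      _ = z := by group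
  rcases lt_trichotomy (i : ℕ) j with hl | hl | hl
  · exact absurd e (key i j hl)
  · exact Fin.ext hl
  · exact absurd e.symm (key j i hl)

theorem surj {v : G} (hv : v ∈ cen S) (hv1 : v ≠ 1) : ∃ i : Fin 3, v = m ^ (i : ℕ) * z * (m ^ (i : ℕ))⁻¹ := by
  classical
  haveI : Fintype (cen S) := Fintype.ofFinite _
  let f : Fin 3 → cen S := fun i => ⟨_, r.pow_mem_cen i⟩
  have hf : Function.Injective f := fun i j e => r.inj h (congrArg Subtype.val e)
  have hsub : Finset.univ.image f = Finset.univ.erase (1 : cen S) := by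
    refine Finset.eq_of_subset_of_card_le ?_ ?_
    · intro w hw
      obtain ⟨i, -, rfl⟩ := Finset.mem_image.1 hw
      exact Finset.mem_erase.2 ⟨fun e => r.pow_ne_one i (congrArg Subtype.val e), Finset.mem_univ _⟩
    · rw [Finset.card_image_of_injective _ hf, Finset.card_erase_of_mem (Finset.mem_univ _), Finset.card_univ,
        Finset.card_univ, Fintype.card_fin, ← Nat.card_eq_fintype_card, h.card_cen]
  obtain ⟨i, -, e⟩ := Finset.mem_image.1 (hsub.symm ▸
    Finset.mem_erase.2 ⟨fun e => hv1 (congrArg Subtype.val e), Finset.mem_univ _⟩ :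
      (⟨v, hv⟩ : cen S) ∈ Finset.univ.image f)
  exact ⟨i, (congrArg Subtype.val e).symm⟩

theorem isConj_cen {v : G} (hv : v ∈ cen S) (hv1 : v ≠ 1) : IsConj z v := by
  obtain ⟨i, e⟩ := r.surj h hv hv1
  exact isConj_iff.2 ⟨m ^ (i : ℕ), e.symm⟩

theorem cube_fix : m ^ 3 * z = z * m ^ 3 := by
  obtain ⟨i, e⟩ := r.surj h (r.pow_mem_cen 3) (r.pow_ne_one 3)
  rcases Nat.eq_zero_or_pos (i : ℕ) with h0 | h0
  · rw [h0, pow_zero, one_mul, inv_one, mul_one] at e
    exact mul_inv_eq_iff_eq_mul.1 e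
  exfalso
  refine r.conj_ne h (i := 3 - (i : ℕ)) (by omega) ?_
  have e1 : m ^ 3 = m ^ (i : ℕ) * m ^ (3 - (i : ℕ)) := by rw [← pow_add]; congr 1; omega
  rw [e1] at e
  calc m ^ (3 - (i : ℕ)) * z * (m ^ (3 - (i : ℕ)))⁻¹
      = (m ^ (i : ℕ))⁻¹ * (m ^ (i : ℕ) * m ^ (3 - (i : ℕ)) * z * (m ^ (i : ℕ) * m ^ (3 - (i : ℕ)))⁻¹) * m ^ (i : ℕ) := by
        group
    _ = (m ^ (i : ℕ))⁻¹ * (m ^ (i : ℕ) * z * (m ^ (i : ℕ))⁻¹) * m ^ (i : ℕ) := by rw [e]
    _ = z := by group

/-- The normalizer is three translates of the stabiliser of `z`. -/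
theorem sum_normalizer [Fintype ↥(normalizer ((S : Subgroup G) : Set G))]
    [Fintype ↥(normalizer ((S : Subgroup G) : Set G) ⊓ centralizer ({z} : Set G))] (F : G → ℂ) :
    ∑ n : ↥(normalizer ((S : Subgroup G) : Set G)), F n =
      ∑ i : Fin 3, ∑ k : ↥(normalizer ((S : Subgroup G) : Set G) ⊓ centralizer ({z} : Set G)),
        F (m ^ (i : ℕ) * k) := by
  classical
  rw [← Fintype.sum_prod_type']
  refine (Fintype.sum_equiv (Equiv.ofBijective
    (fun p : Fin 3 × ↥(normalizer ((S : Subgroup G) : Set G) ⊓ centralizer ({z} : Set G)) =>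
      (⟨m ^ (p.1 : ℕ) * p.2, mul_mem (pow_mem r.hm _) p.2.2.1⟩ : ↥(normalizer ((S : Subgroup G) : Set G))))
    ⟨?_, ?_⟩) _ _ fun p => rfl).symm
  · intro p q e
    have e' : m ^ (p.1 : ℕ) * p.2 = m ^ (q.1 : ℕ) * q.2 := congrArg Subtype.val e
    have hk : ∀ k : ↥(normalizer ((S : Subgroup G) : Set G) ⊓ centralizer ({z} : Set G)), ∀ j : ℕ,
        m ^ j * (k : G) * z * (m ^ j * k)⁻¹ = m ^ j * z * (m ^ j)⁻¹ := fun k j => by
      rw [show m ^ j * (k : G) * z * (m ^ j * k)⁻¹ = m ^ j * ((k : G) * z) * (k : G)⁻¹ * (m ^ j)⁻¹ by group,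
        mem_centralizer_singleton_iff.1 k.2.2]
      group
    have hij : p.1 = q.1 := r.inj h (by rw [← hk p.2, ← hk q.2, e'])
    refine Prod.ext hij (Subtype.ext (mul_left_cancel (a := m ^ (q.1 : ℕ)) ?_))
    rwa [hij] at e'
  · intro n
    have hn : (n : G) * z * (n : G)⁻¹ ∈ cen S := Hyp.cen_normal n.2 r.hz
    obtain ⟨i, e⟩ := r.surj h hn (fun e => r.hz1 (conj_eq_one_iff.1 e))
    refine ⟨(i, ⟨(m ^ (i : ℕ))⁻¹ * n, mul_mem ((normalizer ((S : Subgroup G) : Set G)).inv_mem (pow_mem r.hm _)) n.2, mem_cent_of_comm ?_⟩),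
      Subtype.ext (mul_inv_cancel_left _ _)⟩
    calc (m ^ (i : ℕ))⁻¹ * n * z = (m ^ (i : ℕ))⁻¹ * ((n : G) * z * (n : G)⁻¹) * n := by group
      _ = z * ((m ^ (i : ℕ))⁻¹ * n) := by rw [e]; group

end Rot

/-- Conjugation by an element of the normalizer. -/
noncomputable def cj {n : G} (hn : n ∈ normalizer ((S : Subgroup G) : Set G)) : MulAut ↥(S : Subgroup G) :=
  (S : Subgroup G).normalizerMonoidHom ⟨n, hn⟩

theorem coe_cj {n : G} (hn : n ∈ normalizer ((S : Subgroup G) : Set G)) (y : ↥(S : Subgroup G)) :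
    ((cj hn y : ↥(S : Subgroup G)) : G) = n * y * n⁻¹ := rfl

/-- A linear character trivial on the centre. -/
def Lin (S : Sylow 2 G) (l : ↥(S : Subgroup G) →* ℂˣ) : Prop := ∀ v ∈ center ↥(S : Subgroup G), l v = 1

namespace Hyp

variable (h : Hyp S)
include h

theorem lin_conj {l : ↥(S : Subgroup G) →* ℂˣ} {k v : G} (hv : v ∈ cen S) (hv1 : v ≠ 1)
    (hk : k ∈ normalizer ((S : Subgroup G) : Set G)) (hkv : k * v = v * k) (y : ↥(S : Subgroup G)) :
    l (cj hk y) = l y := by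
  obtain ⟨c, hc, s, hs, rfl⟩ := h.normalizer_cent hv hv1 hk hkv
  have e : cj hk y = ⟨s, hs⟩ * y * ⟨s, hs⟩⁻¹ := Subtype.ext (by
    rw [coe_cj]
    show c * s * y * (c * s)⁻¹ = s * y * s⁻¹
    have h1 := mem_centralizer_iff.1 hc (s * y * s⁻¹) (mul_mem (mul_mem hs y.2) (inv_mem hs))
    rw [show c * s * y * (c * s)⁻¹ = c * (s * y * s⁻¹) * c⁻¹ by group, ← h1, mul_inv_cancel_right])
  rw [e, map_mul, map_mul, mul_comm (l _) (l y), mul_assoc, ← map_mul, mul_inv_cancel, map_one, mul_one]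

theorem lin_comp {l : ↥(S : Subgroup G) →* ℂˣ} (hl : Lin S l) {n : G}
    (hn : n ∈ normalizer ((S : Subgroup G) : Set G)) : Lin S (l.comp (cj hn).toMonoidHom) :=
  fun _ hv => hl _ ((mem_center_map (cj hn)).2 hv)

/-- A rotation fixes only the trivial character. -/
theorem lin_fixed {l : ↥(S : Subgroup G) →* ℂˣ} (hl : Lin S l) {z n : G} (hz : z ∈ cen S) (hz1 : z ≠ 1)
    (hn : n ∈ normalizer ((S : Subgroup G) : Set G)) (hnz : n * z ≠ z * n)
    (hfix : ∀ y, l (cj hn y) = l y) : l = 1 := by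
  classical
  set T := ↥(S : Subgroup G)
  let π := QuotientGroup.mk' (center T)
  have hmap : (center T).map (cj hn).toMonoidHom = center T := by
    refine Subgroup.ext fun x => ⟨?_, fun hx => ⟨(cj hn).symm x, ?_, (cj hn).apply_symm_apply x⟩⟩
    · rintro ⟨y, hy, rfl⟩
      exact (mem_center_map (cj hn)).2 hy
    · exact (mem_center_map (cj hn).symm).2 hx
  let σ := QuotientGroup.congr (center T) (center T) (cj hn) hmap
  have hcomm : ∀ a b : T ⧸ center T, a * b = b * a := by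
    intro a b
    obtain ⟨a, rfl⟩ := QuotientGroup.mk_surjective a
    obtain ⟨b, rfl⟩ := QuotientGroup.mk_surjective b
    rw [← QuotientGroup.mk_mul, ← QuotientGroup.mk_mul, QuotientGroup.eq,
      show (a * b)⁻¹ * (b * a) = b⁻¹ * a⁻¹ * b⁻¹⁻¹ * a⁻¹⁻¹ by rw [inv_inv, inv_inv, mul_inv_rev]; simp only [mul_assoc]]
    exact h.shape.comm b⁻¹ a⁻¹
  let f : T ⧸ center T → T ⧸ center T := fun q => σ q * q⁻¹
  have hf : Function.Injective f := by
    intro a b e
    have h1 : σ (b⁻¹ * a) = b⁻¹ * a := by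
      have e' : σ a * a⁻¹ = σ b * b⁻¹ := e
      rw [map_mul, map_inv]
      calc (σ b)⁻¹ * σ a = (σ b)⁻¹ * (σ a * a⁻¹) * a := by group
        _ = (σ b)⁻¹ * (σ b * b⁻¹) * a := by rw [e']
        _ = b⁻¹ * a := by group
    obtain ⟨y, hy⟩ := QuotientGroup.mk_surjective (b⁻¹ * a)
    rw [← hy] at h1
    have hyc : y⁻¹ * cj hn y ∈ center T := QuotientGroup.eq.1 (h1.symm : (y : T ⧸ center T) = _)
    suffices y ∈ center T by
      rw [(QuotientGroup.eq_one_iff y).2 this] at hy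
      exact (inv_mul_eq_one.1 hy.symm).symm
    by_contra hyn
    have hsq : cj hn (y * y) = y * y := by
      set v := y⁻¹ * cj hn y with hv
      have e1 : cj hn y = y * v := by rw [hv, mul_inv_cancel_left]
      rw [map_mul, e1, mul_assoc, ← mul_assoc v, ← mem_center_iff.1 hyc y, mul_assoc y v v, h.shape.exp v hyc,
        mul_one]
    have hy2 : ((y * y : T) : G) ∈ cen S := h.sq_mem y.2
    have hy2' : ((y * y : T) : G) ≠ 1 := fun e => hyn (h.shape.inv y (Subtype.ext e))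
    exact hnz (h.fix_cen hy2 hy2' hz hn (mul_inv_eq_iff_eq_mul.1 (by rw [← coe_cj hn, hsq])))
  refine MonoidHom.ext fun y => ?_
  obtain ⟨q, hq⟩ := Finite.injective_iff_surjective.1 hf (y : T ⧸ center T)
  obtain ⟨w, rfl⟩ := QuotientGroup.mk_surjective q
  have hmem : (cj hn w * w⁻¹)⁻¹ * y ∈ center T := QuotientGroup.eq.1 hq
  have h2 := hl _ hmem
  rw [map_mul, map_inv, map_mul, hfix, map_inv, mul_inv_cancel, inv_one, one_mul] at h2
  exact h2

end Hyp

/-- The five orbits. -/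
structure Orbits (S : Sylow 2 G) {z m : G} (r : Rot S z m) where
  L : Fin 5 → Fin 3 → (↥(S : Subgroup G) →* ℂˣ)
  lin : ∀ i j, Lin S (L i j)
  nontriv : ∀ i j, L i j ≠ 1
  inj : ∀ i j i' j', L i j = L i' j' → i = i' ∧ j = j'
  rot : ∀ i (j : Fin 3) y, L i j y = L i 0 (cj (pow_mem r.hm (j : ℕ)) y)
  total : ∀ y : ↥(S : Subgroup G), (1 : ℂ) + ∑ i, ∑ j, ((L i j y : ℂˣ) : ℂ) =
    (@ite ℂ (y ∈ center ↥(S : Subgroup G)) (Classical.propDecidable _) 16 0)

theorem Hyp.exists_orbits (h : Hyp S) {z m : G} (r : Rot S z m) [Fintype ↥(S : Subgroup G)] :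
    Nonempty (Orbits S r) := by
  classical
  set T := ↥(S : Subgroup G)
  let Λ : Finset (IrrCharacter T) := Finset.univ.filter fun ψ => (ψ : T → ℂ) 1 = 1
  have hsum : ∀ y : T, ∑ ψ ∈ Λ, (ψ : T → ℂ) y = if y ∈ center T then 16 else 0 := fun y => linear_sum h.shape y
  have hΛcard : Λ.card = 16 := by
    have h1 := hsum 1
    rw [if_pos (one_mem _), Finset.sum_congr rfl fun ψ hψ => (Finset.mem_filter.1 hψ).2, Finset.sum_const,
      nsmul_eq_mul, mul_one] at h1
    exact_mod_cast h1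
  let toIrr : (T →* ℂˣ) → IrrCharacter T := fun l => ⟨fun y => (l y : ℂ), Char.isIrr_linear l⟩
  have htoInj : Function.Injective toIrr := fun a b e => MonoidHom.ext fun y =>
    Units.ext (congrFun (congrArg (fun ψ : IrrCharacter T => (ψ : T → ℂ)) e) y)
  have hto : ∀ ψ ∈ Λ, ∃ l : T →* ℂˣ, Lin S l ∧ toIrr l = ψ := by
    intro ψ hψ
    have h1 := (Finset.mem_filter.1 hψ).2
    obtain ⟨l, hl⟩ := Char.linearHom_of_isCharacter (Char.IsIrr.isCharacter ψ.2) h1
    refine ⟨l, fun v hv => ?_, Subtype.ext hl.symm⟩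
    rcases irr_cases h.shape ψ with ⟨-, hv'⟩ | ⟨h4, -⟩
    · have h2 := hv' v hv
      rw [hl] at h2
      exact Units.ext h2
    · rw [h1] at h4; norm_num at h4
  let H : Finset (T →* ℂˣ) := Λ.preimage toIrr htoInj.injOn
  have hHmem : ∀ l, l ∈ H ↔ toIrr l ∈ Λ := fun l => Finset.mem_preimage
  have hHall : ∀ l : T →* ℂˣ, l ∈ H := fun l => (hHmem l).2 (Finset.mem_filter.2 ⟨Finset.mem_univ _, by simp [toIrr]⟩)
  have hHlin : ∀ l ∈ H, Lin S l := fun l hl => by
    obtain ⟨l', hl', e⟩ := hto _ ((hHmem l).1 hl)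
    exact htoInj e ▸ hl'
  have himg : H.image toIrr = Λ := by
    refine Finset.Subset.antisymm (fun ψ hψ => ?_) fun ψ hψ => ?_
    · obtain ⟨l, hl, rfl⟩ := Finset.mem_image.1 hψ
      exact (hHmem l).1 hl
    · obtain ⟨l, -, e⟩ := hto ψ hψ
      exact Finset.mem_image.2 ⟨l, hHall l, e⟩
  have hHcard : H.card = 16 := by rw [← hΛcard, ← himg, Finset.card_image_of_injective _ htoInj]
  let H' := H.erase 1
  have hH'card : H'.card = 15 := by rw [Finset.card_erase_of_mem (hHall 1), hHcard]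
  let rot : Fin 3 → (T →* ℂˣ) → (T →* ℂˣ) := fun j l => l.comp (cj (pow_mem r.hm (j : ℕ))).toMonoidHom
  let orb : (T →* ℂˣ) → Finset (T →* ℂˣ) := fun l => Finset.univ.image fun j => rot j l
  have hcomp : ∀ (a b : ℕ) (l : T →* ℂˣ) (y : T),
      l (cj (pow_mem r.hm a) (cj (pow_mem r.hm b) y)) = l (cj (pow_mem r.hm (a + b)) y) := by
    intro a b l y
    congr 1
    refine Subtype.ext ?_
    rw [coe_cj, coe_cj, coe_cj, pow_add]
    group
  have hper : ∀ (a : ℕ) (l : T →* ℂˣ) (y : T), l (cj (pow_mem r.hm (a + 3)) y) = l (cj (pow_mem r.hm a) y) := by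
    intro a l y
    rw [← hcomp]
    exact h.lin_conj (l := l.comp (cj (pow_mem r.hm a)).toMonoidHom) r.hz r.hz1 (pow_mem r.hm 3) (r.cube_fix h) y
  have hmod : ∀ (a : ℕ) (l : T →* ℂˣ) (y : T), l (cj (pow_mem r.hm a) y) = l (cj (pow_mem r.hm (a % 3)) y) := by
    intro a l y
    induction a using Nat.strong_induction_on with
    | _ a ih =>
      rcases Nat.lt_or_ge a 3 with h3 | h3
      · simp only [Nat.mod_eq_of_lt h3]
      · obtain ⟨b, rfl⟩ : ∃ b, a = b + 3 := ⟨a - 3, by omega⟩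
        rw [hper, ih b (by omega)]
        simp only [Nat.add_mod_right]
  have hrot_rot : ∀ (a b : Fin 3) (l : T →* ℂˣ), rot a (rot b l) = rot ⟨((b : ℕ) + a) % 3, Nat.mod_lt _ (by omega)⟩ l :=
    fun a b l => MonoidHom.ext fun y => (hcomp b a l y).trans (hmod _ l y)
  have hrot0 : ∀ l, rot 0 l = l := fun l => MonoidHom.ext fun y => congrArg l (Subtype.ext (by
    show m ^ (0 : ℕ) * (y : G) * (m ^ (0 : ℕ))⁻¹ = y
    simp))
  have hrot_inj : ∀ (l : T →* ℂˣ), l ∈ H' → ∀ a b : Fin 3, rot a l = rot b l → a = b := by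
    intro l hl a b e
    by_contra hab
    obtain ⟨hl1, hlH⟩ := Finset.mem_erase.1 hl
    have e2 := congrArg (rot ⟨(3 - (a : ℕ)) % 3, Nat.mod_lt _ (by omega)⟩) e
    rw [hrot_rot, hrot_rot] at e2
    have h0 : ((a : ℕ) + (3 - (a : ℕ)) % 3) % 3 = 0 := by omega
    set c := ((b : ℕ) + (3 - (a : ℕ)) % 3) % 3 with hc
    have hc0 : c = 1 ∨ c = 2 := by
      have : (a : ℕ) ≠ b := fun e => hab (Fin.ext e)
      omega
    have hl0 : ∀ y, l (cj (pow_mem r.hm c) y) = l y := fun y => by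
      have e3 := DFunLike.congr_fun e2 y
      rw [show (⟨((a : ℕ) + (3 - (a : ℕ)) % 3) % 3, Nat.mod_lt _ (by omega)⟩ : Fin 3) = 0 from Fin.ext h0,
        hrot0] at e3
      exact e3.symm
    exact hl1 (h.lin_fixed (hHlin l hlH) r.hz r.hz1 (pow_mem r.hm c)
      (fun e => r.conj_ne h hc0 (mul_inv_eq_iff_eq_mul.2 e)) hl0)
  have hrot_mem : ∀ l ∈ H', ∀ a, rot a l ∈ H' := by
    intro l hl a
    refine Finset.mem_erase.2 ⟨fun e => (Finset.mem_erase.1 hl).1 (MonoidHom.ext fun y => ?_), hHall _⟩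
    have := DFunLike.congr_fun e ((cj (pow_mem r.hm (a : ℕ))).symm y)
    simpa [rot] using this
  have horb_eq : ∀ l a, orb (rot a l) = orb l := by
    intro l a
    ext x
    simp only [orb, Finset.mem_image, Finset.mem_univ, true_and]
    constructor
    · rintro ⟨b, rfl⟩
      exact ⟨_, (hrot_rot b a l).symm⟩
    · rintro ⟨b, rfl⟩
      refine ⟨⟨((b : ℕ) + 3 - a) % 3, Nat.mod_lt _ (by omega)⟩, ?_⟩
      rw [hrot_rot]
      congr 1
      exact Fin.ext (by simp only; omega)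
  have h5 : 5 ≤ (H'.image orb).card := by
    have hle : ∀ o ∈ H'.image orb, (H'.filter fun l => orb l = o).card ≤ 3 := by
      intro o ho
      refine (Finset.card_le_card (t := o) fun l hl => ?_).trans ?_
      · rw [← (Finset.mem_filter.1 hl).2]
        exact Finset.mem_image.2 ⟨0, Finset.mem_univ _, hrot0 l⟩
      · obtain ⟨l, -, rfl⟩ := Finset.mem_image.1 ho
        exact Finset.card_image_le.trans (by simp)
    have h1 := Finset.card_le_mul_card_image H' 3 hle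
    rw [hH'card] at h1
    omega
  obtain ⟨O, hO, hOc⟩ := Finset.exists_subset_card_eq h5
  let e5 := (O.equivFinOfCardEq hOc).symm
  have hrep : ∀ i : Fin 5, ∃ l ∈ H', orb l = (e5 i : Finset (T →* ℂˣ)) := fun i =>
    Finset.mem_image.1 (hO (e5 i).2)
  choose rep hrepH hrep using hrep
  have hinj : ∀ i j i' j', rot j (rep i) = rot j' (rep i') → i = i' ∧ j = j' := by
    intro i j i' j' e
    have h1 := congrArg orb e
    rw [horb_eq, horb_eq, hrep, hrep] at h1
    obtain rfl := e5.injective (Subtype.ext h1)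
    exact ⟨rfl, hrot_inj _ (hrepH i) _ _ e⟩
  have hall : (Finset.univ : Finset (Fin 5 × Fin 3)).image (fun p => rot p.2 (rep p.1)) = H' := by
    refine Finset.eq_of_subset_of_card_le (fun l hl => ?_) ?_
    · obtain ⟨p, -, rfl⟩ := Finset.mem_image.1 hl
      exact hrot_mem _ (hrepH _) _
    · rw [hH'card, Finset.card_image_of_injective _ fun p q e => Prod.ext (hinj _ _ _ _ e).1 (hinj _ _ _ _ e).2]
      simp
  refine ⟨⟨fun i j => rot j (rep i), fun i j => hHlin _ (hHall _),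
    fun i j => (Finset.mem_erase.1 (hrot_mem _ (hrepH i) j)).1, hinj, fun i j y => ?_, fun y => ?_⟩⟩
  · show rep i (cj _ y) = rot 0 (rep i) (cj _ y)
    rw [hrot0]
  · have h2 := hsum y
    rw [← himg, Finset.sum_image fun a _ b _ e => htoInj e, ← Finset.add_sum_erase H _ (hHall 1),
      show H.erase 1 = _ from hall.symm,
      Finset.sum_image fun p _ q _ e => Prod.ext (hinj _ _ _ _ e).1 (hinj _ _ _ _ e).2, Fintype.sum_prod_type] at h2
    simp only [toIrr, MonoidHom.one_apply, Units.val_one] at h2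
    rw [h2]
    congr 1

end Cfsg.Agent.Transfer.UnitaryFour
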