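import Cfsg.Agent.Lib.Transfer.UnitaryFour.Orbits
import Cfsg.Agent.Lib.Block.SuzukiIdentity
import Cfsg.Agent.Lib.Block.KleinFour

/-!
# The principal block: five integral columns and their relations
-/

set_option autoImplicit false
set_option linter.unusedSectionVars false
set_option linter.style.haveILetI false

open scoped ComplexConjugate

namespace Cfsg.Agent.Transfer.UnitaryFour

open Cfsg Subgroup Cfsg.Agent.Block

universe u

variable {G : Type u} [Group G] [Fintype G]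

/-- The principal block as a finite set. -/
noncomputable def blk (M : Ideal AlgInt) (G : Type u) [Group G] [Fintype G] : Finset (IrrCharacter G) := by
  classical exact Finset.univ.filter (· ∈ principalBlock M G)

theorem finsum_blk {M : Ideal AlgInt} (f : IrrCharacter G → ℂ) :
    ∑ᶠ χ ∈ principalBlock M G, f χ = ∑ χ ∈ blk M G, f χ := by
  classical
  rw [finsum_mem_block]
  rfl

/-- The numerical data of the principal block. -/
structure Cols (M : Ideal AlgInt) (z : G) where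
  d : Fin 5 → IrrCharacter G → ℤ
  a : IrrCharacter G → ℕ
  v : IrrCharacter G → ℤ
  hv : ∀ χ : IrrCharacter G, (χ : G → ℂ) z = v χ
  one : ∀ i, d i (trivialIrr G) = 1
  gram : ∀ i j, ∑ χ ∈ blk M G, d i χ * d j χ = if i = j then 4 else 3
  deg : ∀ i, ∑ χ ∈ blk M G, d i χ * (charDegree (χ : G → ℂ) : ℤ) = 0
  zz : ∀ i, ∑ χ ∈ blk M G, d i χ * v χ = 0
  quad : ∀ i, ∑ χ ∈ blk M G, (d i χ : ℂ) * ((v χ : ℂ) ^ 2 / (charDegree (χ : G → ℂ) : ℂ)) = 0
  norm : ∑ χ ∈ blk M G, v χ * v χ = 64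
  cong : ∀ χ : IrrCharacter G, (charDegree (χ : G → ℂ) : ℤ) + 3 * v χ = 64 * a χ - 12 * ∑ i, d i χ
  cong16 : ∀ χ : IrrCharacter G, (16 : ℤ) ∣ (charDegree (χ : G → ℂ) : ℤ) - v χ

theorem Hyp.exists_cols {S : Sylow 2 G} (h : Hyp S) {M : Ideal AlgInt} (hM : IsPModular 2 M) :
    ∃ z : G, Nonempty (Cols M z) := by
  classical
  haveI : Fact (Nat.Prime 2) := ⟨Nat.prime_two⟩
  obtain ⟨z, m, r⟩ := h.exists_rot
  obtain ⟨Ω⟩ := h.exists_orbits r
  refine ⟨z, ?_⟩
  set N := normalizer ((S : Subgroup G) : Set G) with hN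
  set N₀ := N ⊓ centralizer ({z} : Set G) with hN₀
  set CS := centralizer ((S : Subgroup G) : Set G) with hCS
  have hz2 : z * z = 1 := h.cen_sq r.hz
  have hzo : orderOf z = 2 := h.cen_order r.hz r.hz1
  have h64 : (Nat.card ↥(S : Subgroup G) : ℂ) = 64 := by rw [show Nat.card ↥(S : Subgroup G) = 64 from h.card_S]; norm_num
  -- the 2-part of the centralizer of the central involution
  have hfac : (Nat.card ↥(centralizer ({z} : Set G))).factorization 2 = 6 := by
    have h1 := (S.subtype (Hyp.le_cent r.hz)).card_eq_multiplicity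
    rw [Sylow.coe_subtype, Nat.card_congr (subgroupOfEquivOfLe (Hyp.le_cent r.hz)).toEquiv, h.card_S] at h1
    exact (Nat.pow_right_injective le_rfl (show 2 ^ 6 = 2 ^ (Nat.card ↥(centralizer ({z} : Set G))).factorization 2 from
      (by norm_num : (2 : ℕ) ^ 6 = 64).trans h1)).symm
  have hfk : ∀ {y : G} (L : Subgroup ↥(centralizer ({y} : Set G))) (k : ℕ), ¬ 2 ∣ Nat.card L → L.index = 2 ^ k →
      (Nat.card ↥(centralizer ({y} : Set G))).factorization 2 = k := by
    intro y L k hd hk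
    rw [← L.card_mul_index, hk, Nat.factorization_mul Nat.card_pos.ne' (pow_ne_zero _ two_ne_zero),
      Finsupp.add_apply, Nat.factorization_eq_zero_of_not_dvd hd,
      Nat.Prime.factorization_pow Nat.prime_two, Finsupp.single_eq_same, zero_add]
  have hN0 : Nat.card ↥N₀ = 16 * Nat.card ↥CS := by
    obtain ⟨L, k, -, hd, hk, he⟩ := h.card_facts (cen_le r.hz) r.hz1
    have hk6 : k = 6 := (hfk L k hd hk).symm.trans hfac
    subst hk6
    rw [← hN, ← hN₀, ← hCS] at he
    omega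
  have hcol : ∀ {y : G}, y ∈ (S : Subgroup G) → y ≠ 1 →
      ∑ᶠ ψ ∈ principalBlock M ↥(centralizer ({y} : Set G)),
        ((charDegree (ψ : ↥(centralizer ({y} : Set G)) → ℂ) : ℕ) : ℂ) ^ 2 =
      4 / (Nat.card ↥CS : ℂ) * Nat.card ↥(N ⊓ centralizer ({y} : Set G)) := by
    intro y hy hy1
    obtain ⟨L, k, hLn, hd, hk, he⟩ := h.card_facts hy hy1
    have h2 := principal_column_complement hM hd hk (y := (1 : ↥(centralizer ({y} : Set G)))) (by simp)
    rw [hfk L k hd hk] at h2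
    have e : (4 : ℂ) * Nat.card ↥(N ⊓ centralizer ({y} : Set G)) = Nat.card ↥CS * ((2 ^ k : ℕ) : ℂ) := by
      exact_mod_cast he
    rw [div_mul_eq_mul_div, e, mul_div_cancel_left₀ _ (Nat.cast_ne_zero.2 Nat.card_pos.ne'), ← h2]
    refine finsum_congr fun ψ => finsum_congr fun _ => ?_
    rw [charDeg_spec' ψ, Complex.conj_natCast, sq]
  -- multiplicities
  let res : IrrCharacter G → ↥(S : Subgroup G) → ℂ := fun χ y => (χ : G → ℂ) y
  have hres : ∀ χ, IsCharacter ↥(S : Subgroup G) (res χ) := fun χ => Char.IsChar.res (irr_isChar χ) _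
  have hmult : ∀ (χ : IrrCharacter G) (l : ↥(S : Subgroup G) →* ℂˣ), ∃ n : ℕ,
      classInner (res χ) (fun y => (l y : ℂ)) = n := fun χ l =>
    Char.IsChar.classInner_nat (hres χ) (Char.IsIrr.isCharacter (Char.isIrr_linear l))
  choose μ hμ using hmult
  let d : Fin 5 → IrrCharacter G → ℤ := fun i χ => (μ χ 1 : ℤ) - μ χ (Ω.L i 0)
  let θ : Fin 5 → ↥(S : Subgroup G) → ℂ := fun i y => 1 - ((Ω.L i 0 y : ℂˣ) : ℂ)
  have hθg : ∀ i, IsGeneralizedCharacter ↥(S : Subgroup G) (θ i) := fun i =>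
    ⟨fun _ => 1, fun y => ((Ω.L i 0 y : ℂˣ) : ℂ), Char.IsChar.one, Char.IsIrr.isCharacter (Char.isIrr_linear _), rfl⟩
  have hd : ∀ (i : Fin 5) (χ : IrrCharacter G), (Nat.card ↥(S : Subgroup G) : ℂ)⁻¹ * ∑ y : ↥(S : Subgroup G), (χ : G → ℂ) y * θ i y⁻¹ = (d i χ : ℂ) := by
    intro i χ
    have e1 := hμ χ 1
    have e2 := hμ χ (Ω.L i 0)
    simp only [classInner] at e1 e2
    push_cast [d]
    rw [← e1, ← e2, ← mul_sub, ← Finset.sum_sub_distrib]
    refine congrArg _ (Finset.sum_congr rfl fun y _ => ?_)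
    rw [genChar_apply_inv (hθg i) y]
    show res χ y * conj (1 - _) = _
    rw [map_sub, map_one, MonoidHom.one_apply, Units.val_one, map_one]
    ring
  have hconj : ∀ (j : Fin 3) (k : G), k ∈ N₀ → ∀ (i : Fin 5) (y : ↥(S : Subgroup G)),
      extendByZero (S : Subgroup G) (θ i) (m ^ (j : ℕ) * k * y * (m ^ (j : ℕ) * k)⁻¹) = 1 - ((Ω.L i j y : ℂˣ) : ℂ) := by
    intro j k hk i y
    have hmk : m ^ (j : ℕ) * k ∈ N := mul_mem (pow_mem r.hm _) hk.1
    have he : extendByZero (S : Subgroup G) (θ i) ((cj hmk y : ↥(S : Subgroup G)) : G) = θ i (cj hmk y) :=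
      Subtype.val_injective.extend_apply (θ i) 0 _
    rw [coe_cj] at he
    rw [he, Ω.rot i j y]
    show 1 - _ = _
    have e : cj hmk y = cj (pow_mem r.hm (j : ℕ)) (cj hk.1 y) := Subtype.ext (by
      rw [coe_cj, coe_cj, coe_cj]; group)
    rw [e]
    have := h.lin_conj (l := (Ω.L i 0).comp (cj (pow_mem r.hm (j : ℕ))).toMonoidHom) r.hz r.hz1 hk.1
      (mem_centralizer_singleton_iff.1 hk.2) y
    rw [show Ω.L i 0 (cj (pow_mem r.hm (j : ℕ)) (cj hk.1 y)) = Ω.L i 0 (cj (pow_mem r.hm (j : ℕ)) y) from this]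
  have horth : ∀ l : ↥(S : Subgroup G) →* ℂˣ, l ≠ 1 → ∑ y : ↥(S : Subgroup G), (l y : ℂ) = 0 := fun l hl => by
    refine sum_hom_units_eq_zero ((Units.coeHom ℂ).comp l) fun he => hl (MonoidHom.ext fun y => Units.ext ?_)
    exact DFunLike.congr_fun he y
  have hgram : ∀ i i', ∑ χ ∈ blk M G, d i χ * d i' χ = if i = i' then 4 else 3 := by
    intro i i'
    have hid := principal_inner_identity hM (S : Subgroup G) S.isPGroup' N le_rfl
      {y | y ∈ (S : Subgroup G) ∧ y ≠ 1} (fun u hu g hg => h.fusion hu.1 hu.2 hg)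
      (4 / (Nat.card ↥CS : ℂ)) (fun y hy => hcol hy.1 hy.2) (θ := θ i) (η := θ i') (hθg i) (fun y hy => by
        have : y = 1 := Subtype.ext (by_contra fun hne => hy ⟨y.2, hne⟩)
        simp [θ, this])
    rw [finsum_blk] at hid
    simp only [hd, map_intCast] at hid
    have hrow : ∀ y : ↥(S : Subgroup G), ∑ n : ↥N, extendByZero (S : Subgroup G) (θ i') ((n : G) * y * (n : G)⁻¹) =
        (Nat.card ↥N₀ : ℂ) * ∑ j : Fin 3, (1 - ((Ω.L i' j y : ℂˣ) : ℂ)) := by
      intro y
      rw [r.sum_normalizer h (fun n => extendByZero (S : Subgroup G) (θ i') (n * y * n⁻¹)), Finset.mul_sum]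
      refine Finset.sum_congr rfl fun j _ => ?_
      rw [Finset.sum_congr rfl fun (k : ↥N₀) _ => hconj j k k.2 i' y, Finset.sum_const, Finset.card_univ,
        ← Nat.card_eq_fintype_card, nsmul_eq_mul]
    simp only [hrow, map_mul, Complex.conj_natCast, map_sum, map_sub, map_one] at hid
    have hinner : ∀ j : Fin 3, ∑ y : ↥(S : Subgroup G), θ i y * (1 - conj ((Ω.L i' j y : ℂˣ) : ℂ)) =
        64 * (1 + if i = i' ∧ j = 0 then 1 else 0) := by
      intro j
      have hc : ∀ y, conj ((Ω.L i' j y : ℂˣ) : ℂ) = (((Ω.L i' j)⁻¹ y : ℂˣ) : ℂ) := fun y => by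
        rw [← Char.IsIrr.apply_inv (Char.isIrr_linear (Ω.L i' j)) y, MonoidHom.inv_apply, map_inv]
      have hexp : ∀ y, θ i y * (1 - conj ((Ω.L i' j y : ℂˣ) : ℂ)) =
          1 - ((Ω.L i 0 y : ℂˣ) : ℂ) - (((Ω.L i' j)⁻¹ y : ℂˣ) : ℂ) +
            ((((Ω.L i 0) * (Ω.L i' j)⁻¹ : ↥(S : Subgroup G) →* ℂˣ) y : ℂˣ) : ℂ) := fun y => by
        rw [hc, MonoidHom.mul_apply, Units.val_mul]
        simp only [θ]
        ring
      rw [Finset.sum_congr rfl fun y _ => hexp y, Finset.sum_add_distrib, Finset.sum_sub_distrib,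
        Finset.sum_sub_distrib, horth _ (Ω.nontriv i 0), horth _ (fun e => Ω.nontriv i' j (MonoidHom.ext fun y => inv_eq_one.1 (DFunLike.congr_fun e y))),
        Finset.sum_const, Finset.card_univ, ← Nat.card_eq_fintype_card, nsmul_eq_mul, mul_one, h64]
      by_cases hij : i = i' ∧ j = 0
      · obtain ⟨rfl, rfl⟩ := hij
        simp only [MonoidHom.mul_apply, MonoidHom.inv_apply, mul_inv_cancel, Units.val_one, Finset.sum_const, Finset.card_univ,
          ← Nat.card_eq_fintype_card, nsmul_eq_mul, mul_one, h64, and_self, if_true]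
        ring
      · have hne : Ω.L i 0 ≠ Ω.L i' j := fun e => hij ⟨(Ω.inj _ _ _ _ e).1, (Ω.inj _ _ _ _ e).2.symm⟩
        rw [horth _ fun e => hne (MonoidHom.ext fun y => mul_inv_eq_one.1 (DFunLike.congr_fun e y)),
          if_neg hij]
        ring
    have hsum : ∑ y : ↥(S : Subgroup G), θ i y * ((Nat.card ↥N₀ : ℂ) * ∑ j : Fin 3, (1 - conj ((Ω.L i' j y : ℂˣ) : ℂ))) =
        (Nat.card ↥N₀ : ℂ) * (64 * (3 + if i = i' then 1 else 0)) := by
      simp only [Finset.mul_sum]
      rw [Finset.sum_comm]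
      simp only [mul_left_comm (θ i _) (Nat.card ↥N₀ : ℂ), ← Finset.mul_sum, hinner, Fin.sum_univ_three]
      by_cases hii : i = i' <;> simp [hii] <;> ring
    rw [hsum, hN0, h64] at hid
    have hcs : (Nat.card ↥CS : ℂ) ≠ 0 := Nat.cast_ne_zero.2 Nat.card_pos.ne'
    push_cast at hid
    field_simp at hid
    have h1 : ((∑ χ ∈ blk M G, d i χ * d i' χ : ℤ) : ℂ) = (((if i = i' then 4 else 3) : ℤ) : ℂ) := by
      push_cast
      split_ifs with hii
      · rw [if_pos hii] at hid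
        linear_combination hid / 64
      · rw [if_neg hii] at hid
        linear_combination hid / 64
    exact_mod_cast h1
  -- moments against the central involution and the identity
  have hmom : ∀ (f : IrrCharacter G → ℂ),
      (∀ y : G, y ∈ (S : Subgroup G) → y ∉ cen S → ∑ χ ∈ blk M G, f χ * (χ : G → ℂ) y = 0) →
      ∀ i, ∑ χ ∈ blk M G, (d i χ : ℂ) * f χ = 0 := by
    intro f hf i
    simp only [← hd, Finset.mul_sum, Finset.sum_mul]
    rw [Finset.sum_comm]
    refine Finset.sum_eq_zero fun y _ => ?_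
    by_cases hyc : (y : G) ∈ cen S
    · have : θ i y⁻¹ = 0 := by
        simp only [θ]
        rw [map_inv, Ω.lin i 0 y ((mem_cen y.2).1 hyc), inv_one, Units.val_one, sub_self]
      simp [this]
    · calc ∑ χ ∈ blk M G, (Nat.card ↥(S : Subgroup G) : ℂ)⁻¹ * ((χ : G → ℂ) y * θ i y⁻¹) * f χ
          = (Nat.card ↥(S : Subgroup G) : ℂ)⁻¹ * θ i y⁻¹ * ∑ χ ∈ blk M G, f χ * (χ : G → ℂ) y := by
            rw [Finset.mul_sum]; exact Finset.sum_congr rfl fun χ _ => by ring
        _ = 0 := by rw [hf _ y.2 hyc, mul_zero]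
  choose v hv using fun χ : IrrCharacter G => char_involution_int χ hz2
  have hpp : ∀ y ∈ (S : Subgroup G), ∃ k : ℕ, orderOf y = 2 ^ k := fun y hy => pPow_of_mem S.isPGroup' hy
  have hne : ∀ y : G, y ∈ (S : Subgroup G) → y ∉ cen S → ¬ IsConj y z ∧ ¬ IsConj y 1 := by
    intro y hy hyc
    refine ⟨fun hc => hyc (h.mem_cen_of_sq hy ?_), fun hc => hyc ?_⟩
    · rw [← pow_two, ← orderOf_dvd_iff_pow_eq_one, Invol.orderOf_eq_of_isConj hc, hzo]
    · rw [orderOf_eq_one_iff.1 ((Invol.orderOf_eq_of_isConj hc).trans orderOf_one)]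
      exact one_mem _
  have hcong : ∀ χ : IrrCharacter G, (charDegree (χ : G → ℂ) : ℤ) + 3 * v χ = 64 * μ χ 1 - 12 * ∑ i, d i χ ∧
      (16 : ℤ) ∣ (charDegree (χ : G → ℂ) : ℤ) - v χ := by
    intro χ
    have hval : ∀ w ∈ cen S, w ≠ 1 → (χ : G → ℂ) w = v χ := fun w hw hw1 => by
      rw [← hv χ, Char.IsClass.eq_of_isConj (irr_classFun χ) (r.isConj_cen h hw hw1)]
    have hcs : censum (res χ) = (charDegree (χ : G → ℂ) : ℂ) + 3 * (v χ : ℂ) := by
      simp only [censum]
      rw [← Finset.add_sum_erase _ _ (Finset.mem_filter.2 ⟨Finset.mem_univ (1 : ↥(S : Subgroup G)), one_mem _⟩),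
        show res χ 1 = (charDegree (χ : G → ℂ) : ℂ) from (charDeg_spec' χ),
        Finset.sum_congr rfl fun (w : ↥(S : Subgroup G)) hw => hval (w : G)
          ((mem_cen w.2).2 (Finset.mem_filter.1 (Finset.mem_erase.1 hw).2).2)
          (fun e => (Finset.mem_erase.1 hw).1 (Subtype.ext e)),
        Finset.sum_const, Finset.card_erase_of_mem (Finset.mem_filter.2 ⟨Finset.mem_univ (1 : ↥(S : Subgroup G)), one_mem _⟩),
        center_card' h.shape, nsmul_eq_mul]
      norm_num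
    have hsame : ∀ i (j : Fin 3), μ χ (Ω.L i j) = μ χ (Ω.L i 0) := by
      intro i j
      refine Nat.cast_injective (R := ℂ) ?_
      rw [← hμ, ← hμ]
      simp only [classInner]
      refine congrArg _ (Fintype.sum_equiv (cj (pow_mem r.hm (j : ℕ))).toEquiv _ _ fun y => ?_)
      show res χ y * conj _ = res χ (cj _ y) * conj _
      rw [Ω.rot i j y]
      congr 1
      exact Char.IsClass.eq_of_isConj (irr_classFun χ) (isConj_iff.2 ⟨m ^ (j : ℕ), rfl⟩)
    have hL : censum (res χ) / 4 = (μ χ 1 : ℂ) + 3 * ∑ i, (μ χ (Ω.L i 0) : ℂ) := by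
      have h1 : (μ χ 1 : ℂ) + ∑ i, ∑ j, (μ χ (Ω.L i j) : ℂ) =
          (Nat.card ↥(S : Subgroup G) : ℂ)⁻¹ * ∑ y : ↥(S : Subgroup G), res χ y * conj ((1 : ℂ) + ∑ i, ∑ j, ((Ω.L i j y : ℂˣ) : ℂ)) := by
        simp only [← hμ, classInner, map_add, map_sum, mul_add, Finset.mul_sum, Finset.sum_add_distrib,
          MonoidHom.one_apply, Units.val_one]
        congr 1
        rw [eq_comm, Finset.sum_comm]
        exact Finset.sum_congr rfl fun i _ => Finset.sum_comm
      simp only [hsame, Ω.total, Finset.sum_const, Finset.card_univ, Fintype.card_fin, nsmul_eq_mul,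
        ← Finset.mul_sum] at h1
      push_cast at h1
      rw [h1, h64]
      simp only [censum, apply_ite (starRingEnd ℂ), map_zero, map_ofNat, mul_ite, mul_zero]
      rw [← Finset.sum_filter, ← Finset.sum_mul]
      ring
    obtain ⟨n, hn⟩ := exists_rest h.shape (hres χ)
    rw [show res χ 1 = (charDegree (χ : G → ℂ) : ℂ) from (charDeg_spec' χ), hcs] at hn
    rw [hcs] at hL
    constructor
    · have e : (((charDegree (χ : G → ℂ) : ℤ) + 3 * v χ : ℤ) : ℂ) =
          ((64 * μ χ 1 - 12 * ∑ i, d i χ : ℤ) : ℂ) := by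
        simp only [d]
        push_cast
        rw [Finset.sum_sub_distrib, Finset.sum_const, Finset.card_univ, Fintype.card_fin, nsmul_eq_mul]
        push_cast
        linear_combination 4 * hL
      exact_mod_cast e
    · have e : ((3 * ((charDegree (χ : G → ℂ) : ℤ) - v χ) : ℤ) : ℂ) = ((16 * n : ℤ) : ℂ) := by
        push_cast
        linear_combination 4 * hn
      have e' : 3 * ((charDegree (χ : G → ℂ) : ℤ) - v χ) = 16 * n := by exact_mod_cast e
      omega
  refine ⟨⟨d, fun χ => μ χ 1, v, hv, fun i => ?_, hgram, fun i => ?_, fun i => ?_, fun i => ?_, ?_,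
    fun χ => (hcong χ).1, fun χ => (hcong χ).2⟩⟩
  · have e := hd i (trivialIrr G)
    have : (Nat.card ↥(S : Subgroup G) : ℂ)⁻¹ * ∑ y : ↥(S : Subgroup G), ((trivialIrr G : IrrCharacter G) : G → ℂ) y * θ i y⁻¹ = 1 := by
      simp only [trivialIrr, one_mul, θ, Finset.sum_sub_distrib]
      rw [show ∑ y : ↥(S : Subgroup G), ((Ω.L i 0 y⁻¹ : ℂˣ) : ℂ) = 0 from
        (Equiv.sum_comp (Equiv.inv ↥(S : Subgroup G)) fun y => ((Ω.L i 0 y : ℂˣ) : ℂ)).trans (horth _ (Ω.nontriv i 0))]
      simp [Finset.card_univ, ← Nat.card_eq_fintype_card, h64]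
    rw [this] at e
    exact_mod_cast e.symm
  · have := hmom (fun χ => (charDegree (χ : G → ℂ) : ℂ)) (fun y hy hyc => by
      have h1 := principal_pElem_orth hM (hpp y hy) (hpp 1 (one_mem _)) (hne y hy hyc).2
      rw [finsum_blk] at h1
      rw [← h1]
      exact Finset.sum_congr rfl fun χ _ => by rw [charDeg_spec' χ, Complex.conj_natCast]; ring) i
    exact_mod_cast this
  · have := hmom (fun χ => (v χ : ℂ)) (fun y hy hyc => by
      have h1 := principal_pElem_orth hM (hpp y hy) (hpp z (cen_le r.hz)) (hne y hy hyc).1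
      rw [finsum_blk] at h1
      rw [← h1]
      exact Finset.sum_congr rfl fun χ _ => by rw [hv, map_intCast]; ring) i
    exact_mod_cast this
  · exact hmom (fun χ => (v χ : ℂ) ^ 2 / (charDegree (χ : G → ℂ) : ℂ)) (fun y hy hyc => by
      have h1 := block_involution_product hM (isPBlock_principalBlock (G := G)) hz2 (hpp y hy) fun g =>
        h.not_inverted hy hyc (by rw [Invol.orderOf_conj_eq, hzo])
      rw [finsum_blk] at h1
      rw [← h1]
      exact Finset.sum_congr rfl fun χ _ => by rw [hv, charDeg_spec' χ]) i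
  · have h1 := principal_pElem_self hM (hpp z (cen_le r.hz))
    rw [finsum_blk, hcol (cen_le r.hz) r.hz1, show Nat.card ↥(N ⊓ centralizer ({z} : Set G)) = 16 * Nat.card ↥CS from hN0] at h1
    have h2 : ((∑ χ ∈ blk M G, v χ * v χ : ℤ) : ℂ) = ((64 : ℤ) : ℂ) := by
      push_cast
      rw [show (64 : ℂ) = 4 / (Nat.card ↥CS : ℂ) * ((16 * Nat.card ↥CS : ℕ) : ℂ) by
        push_cast
        field_simp [show (Nat.card ↥CS : ℂ) ≠ 0 from Nat.cast_ne_zero.2 Nat.card_pos.ne']
        norm_num, ← h1]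
      exact Finset.sum_congr rfl fun χ _ => by rw [hv, map_intCast]
    exact_mod_cast h2

end Cfsg.Agent.Transfer.UnitaryFour
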