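import Cfsg.Agent.Lib.Local.CoreConsumers.Connected
import Cfsg.Agent.Lib.Invol.NormalFour
import Cfsg.Agent.Lib.Fus.ElemChain
import Cfsg.Prelude.Def_CaseTheorems

/-!
# Normal four-subgroups and the graph of four-subgroups

In a 2-group with a normal four-subgroup and an elementary subgroup of order at least 8 the graph of
four-subgroups is connected as soon as every involution lies in an elementary subgroup of order at
least 8; only the involutions outside the centraliser of the normal four-subgroup are in doubt.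
-/

set_option autoImplicit false
set_option linter.style.haveILetI false
set_option linter.unusedSectionVars false

namespace Cfsg.Agent.Transfer.UnitaryFour

open Subgroup CoreConsumers ConstrainedCores

universe u

/-- An involution lies in an elementary subgroup of order at least eight. -/
def InEight {P : Type u} [Group P] (u : P) : Prop :=
  ∃ F : Subgroup P, Cfsg.IsElementaryAbelian 2 F ∧ 8 ≤ Nat.card F ∧ u ∈ F

variable {P : Type u} [Group P] [Finite P]

theorem eq_one_or_two {A : Subgroup P} (hA : Cfsg.IsElementaryAbelian 2 A) : IsPGroup 2 A :=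
  fun a => ⟨1, Subtype.ext (by rw [pow_one, SubgroupClass.coe_pow]; exact hA.2 _ a.2)⟩

/-- Adjoining a commuting involution. -/
theorem eight_le_sup {A : Subgroup P} (hA : Cfsg.IsElementaryAbelian 2 A) (h4 : 4 ≤ Nat.card A) {x : P}
    (hx : x ^ 2 = 1) (hxA : x ∉ A) (hc : ∀ a ∈ A, Commute a x) :
    Cfsg.IsElementaryAbelian 2 (A ⊔ zpowers x : Subgroup P) ∧
      8 ≤ Nat.card (A ⊔ zpowers x : Subgroup P) := by
  haveI : Fact (Nat.Prime 2) := ⟨Nat.prime_two⟩
  have hB := elemAb_sup hA (elemAb_zpowers hx) fun a ha c hcx => by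
    obtain ⟨i, rfl⟩ := mem_zpowers_iff.1 hcx
    exact (hc a ha).zpow_right i
  refine ⟨hB, ?_⟩
  have hlt : Nat.card A < Nat.card (A ⊔ zpowers x : Subgroup P) :=
    lt_of_le_of_ne (Subgroup.card_le_of_le le_sup_left) fun e =>
      hxA ((Subgroup.eq_of_le_of_card_ge le_sup_left e.ge).ge (mem_sup_right (mem_zpowers x)))
  obtain ⟨a, ha⟩ := IsPGroup.iff_card.1 (eq_one_or_two hA)
  obtain ⟨b, hb⟩ := IsPGroup.iff_card.1 (eq_one_or_two hB)
  rw [ha] at h4 hlt
  rw [hb] at hlt ⊢
  have h2 : 2 ≤ a := (Nat.pow_le_pow_iff_right (le_refl 2)).1 h4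
  have h3 := (Nat.pow_lt_pow_iff_right (le_refl 2)).1 hlt
  exact le_trans (show (8 : ℕ) ≤ 2 ^ 3 by norm_num) (Nat.pow_le_pow_right two_pos (by omega))

theorem mem_four {K : Subgroup P} (hK : Nat.card K = 4) {a b : P} (ha : a ∈ K) (hb : b ∈ K)
    (ha1 : a ≠ 1) (hb1 : b ≠ 1) (hab : a ≠ b) (ha2 : a ^ 2 = 1) {x : P} (hx : x ∈ K) :
    x = 1 ∨ x = a ∨ x = b ∨ x = a * b := by
  classical
  letI : Fintype K := Fintype.ofFinite K
  have h1 : a * b ≠ 1 := fun e => hab (mul_left_cancel (show a * a = a * b by rw [← pow_two, ha2, e]))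
  have h2 : a * b ≠ a := fun e => hb1 (mul_eq_left.1 e)
  have h3 : a * b ≠ b := fun e => ha1 (mul_eq_right.1 e)
  let s : Finset K := {1, ⟨a, ha⟩, ⟨b, hb⟩, ⟨a * b, mul_mem ha hb⟩}
  have hs : s = Finset.univ := by
    apply Finset.eq_univ_of_card
    rw [← Nat.card_eq_fintype_card, hK]
    simp [s, Subtype.ext_iff, ha1.symm, hb1.symm, h1.symm, hab, h2.symm, h3.symm]
  have := hs ▸ Finset.mem_univ (⟨x, hx⟩ : K)
  simpa [s, Subtype.ext_iff] using this

/-- A normal four-subgroup with a central involution in it. -/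
structure Frame (V : Subgroup P) (z : P) : Prop where
  normal : V.Normal
  card : Nat.card V = 4
  sq : ∀ x ∈ V, x ^ 2 = 1
  mem : z ∈ V
  ne : z ≠ 1
  central : ∀ x : P, Commute z x

theorem exists_frame (hP : IsPGroup 2 P) (E : Subgroup P) (hE : Cfsg.IsElementaryAbelian 2 E)
    (h8 : 8 ≤ Nat.card E) : ∃ (V : Subgroup P) (z : P), Frame V z := by
  haveI : Fact (Nat.Prime 2) := ⟨Nat.prime_two⟩
  obtain ⟨k, hk⟩ := IsPGroup.iff_card.1 (eq_one_or_two hE)
  have hk3 : 3 ≤ k := by
    rw [hk, show (8 : ℕ) = 2 ^ 3 by norm_num] at h8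
    exact (Nat.pow_le_pow_iff_right (le_refl 2)).1 h8
  obtain ⟨A, hA⟩ := Sylow.exists_subgroup_card_pow_prime (G := E) 2 (n := 3)
    (hk ▸ pow_dvd_pow 2 hk3)
  obtain ⟨V, hVn, hV4, hV2⟩ := Invol.NormalFour.exists_normal_four hP (A.map E.subtype)
    (by rw [card_map_of_injective E.subtype_injective, hA]; norm_num)
    (by rintro _ ⟨a, _, rfl⟩; exact hE.2 _ a.2)
  haveI := hVn
  have hV : Cfsg.IsElementaryAbelian 2 V :=
    ⟨⟨⟨fun a b => mul_comm_of_exponent_two
      (Nat.dvd_antisymm (Monoid.exponent_dvd_of_forall_pow_eq_one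
        fun x => Subtype.ext (hV2 _ x.2)) (by
          haveI : Nontrivial V := Finite.one_lt_card_iff_nontrivial.1 (by rw [hV4]; norm_num)
          obtain ⟨x, hx⟩ := exists_ne (1 : V)
          exact (orderOf_eq_prime (Subtype.ext (hV2 _ x.2)) hx) ▸ Monoid.order_dvd_exponent x))
        a b⟩⟩, hV2⟩
  obtain ⟨z, hzV, hz1, hz⟩ := Fus.exists_central_involution hP hV fun e => by
    rw [e, Subgroup.card_bot] at hV4
    omega
  exact ⟨V, z, hVn, hV4, hV2, hzV, hz1, fun x => ((hz x).1).symm⟩

namespace Frame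

variable {V : Subgroup P} {z : P} (h : Frame V z)

include h

theorem z2 : z ^ 2 = 1 := h.sq z h.mem

theorem exists_other : ∃ v ∈ V, v ≠ 1 ∧ v ≠ z ∧ ∀ x ∈ V, x = 1 ∨ x = z ∨ x = v ∨ x = z * v := by
  classical
  obtain ⟨v, hv, hv'⟩ : ∃ v ∈ V, v ∉ zpowers z := by
    by_contra hno
    push Not at hno
    have := Subgroup.card_le_of_le (show V ≤ zpowers z from hno)
    rw [h.card, Nat.card_zpowers, orderOf_eq_prime h.z2 h.ne] at this
    omega
  have hv1 : v ≠ 1 := fun e => hv' (e ▸ one_mem _)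
  have hvz : v ≠ z := fun e => hv' (e ▸ mem_zpowers z)
  exact ⟨v, hv, hv1, hvz, fun x hx => mem_four h.card h.mem hv h.ne hv1 hvz.symm h.z2 hx⟩

theorem elem : Cfsg.IsElementaryAbelian 2 V := by
  obtain ⟨v, _, -, -, hall⟩ := h.exists_other
  have hzv : ∀ x ∈ V, Commute v x := fun x hx => by
    rcases hall x hx with rfl | rfl | rfl | rfl
    exacts [Commute.one_right v, (h.central v).symm, Commute.refl _,
      (h.central v).symm.mul_right (Commute.refl v)]
  refine ⟨⟨⟨fun a b => Subtype.ext ?_⟩⟩, h.sq⟩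
  show (a : P) * b = b * a
  rcases hall a a.2 with e | e | e | e <;> rw [e]
  exacts [Commute.one_left _, (h.central _).eq, (hzv _ b.2).eq, ((h.central _).mul_left (hzv _ b.2)).eq]

theorem le_centralizer : V ≤ centralizer (V : Set P) := fun a ha =>
  mem_centralizer_iff.2 fun b hb => Grp.elemAb_comm h.elem b hb a ha

theorem centralizer_index : (centralizer (V : Set P)).index ≤ 2 := by
  haveI := h.normal
  obtain ⟨v, hv, hv1, hvz, hall⟩ := h.exists_other
  set T := centralizer (V : Set P) with hT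
  have key : ∀ a ∉ T, a * v * a⁻¹ = z * v := fun a ha => by
    have hne : a * v * a⁻¹ ≠ v := fun e => ha (mem_centralizer_iff.2 fun b hb => by
      rcases hall b hb with rfl | rfl | rfl | rfl
      · simp
      · exact (h.central a).eq
      · exact (mul_inv_eq_iff_eq_mul.1 e).symm
      · exact ((h.central a).mul_left (mul_inv_eq_iff_eq_mul.1 e).symm).eq)
    rcases hall _ (h.normal.conj_mem v hv a) with e | e | e | e
    · exact absurd (conj_eq_one_iff.1 e) hv1
    · refine absurd ?_ hvz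
      calc v = a⁻¹ * (a * v * a⁻¹) * a := by group
        _ = a⁻¹ * (z * a) := by rw [e, mul_assoc]
        _ = z := by rw [(h.central a).eq, inv_mul_cancel_left]
    · exact absurd e hne
    · exact e
  by_cases htop : T = ⊤
  · rw [htop, Subgroup.index_top]; omega
  obtain ⟨a, ha⟩ := SetLike.exists_of_lt (lt_top_iff_ne_top.2 htop)
  have hmul : ∀ b ∉ T, b⁻¹ * a ∈ T := fun b hb => mem_centralizer_iff.2 fun x hx => by
    have e := (key a ha.2).trans (key b hb).symm
    have hcv : Commute (b⁻¹ * a) v := by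
      show b⁻¹ * a * v = v * (b⁻¹ * a)
      calc b⁻¹ * a * v = b⁻¹ * (a * v * a⁻¹) * a := by group
        _ = b⁻¹ * (b * v * b⁻¹) * a := by rw [e]
        _ = v * (b⁻¹ * a) := by group
    rcases hall x hx with rfl | rfl | rfl | rfl
    · simp
    · exact (h.central _).eq
    · exact hcv.symm.eq
    · exact ((h.central _).mul_left hcv.symm).eq
  refine le_of_eq (Subgroup.index_eq_two_iff.2 ⟨a, fun b => ?_⟩)
  by_cases hb : b ∈ T
  · exact Or.inr ⟨hb, fun hba => ha.2 (by simpa using mul_mem (inv_mem hb) hba)⟩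
  · refine Or.inl ⟨?_, hb⟩
    have := hmul b⁻¹ fun e => hb (by simpa using inv_mem e)
    rwa [inv_inv] at this

/-- Half of an elementary group centralises the four-subgroup. -/
theorem four_le_inf {F : Subgroup P} (h8 : 8 ≤ Nat.card F) :
    4 ≤ Nat.card (F ⊓ centralizer (V : Set P) : Subgroup P) := by
  set T := centralizer (V : Set P)
  have hi : T.relIndex F ≤ 2 := by
    refine le_trans (le_trans (Subgroup.relIndex_le_of_le_right le_top ?_) (le_of_eq T.relIndex_top_right))
      h.centralizer_index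
    rw [T.relIndex_top_right]
    exact Subgroup.index_ne_zero_of_finite
  have hc := Subgroup.card_mul_index (T.subgroupOf F)
  rw [← Subgroup.relIndex, ← Subgroup.inf_subgroupOf_right,
    Nat.card_congr (subgroupOfEquivOfLe inf_le_right).toEquiv, inf_comm] at hc
  nlinarith

/-- An element centralising the four-subgroup lies in an elementary group of order at least eight. -/
theorem inEight_of_mem (E : Subgroup P) (hE : Cfsg.IsElementaryAbelian 2 E) (h8 : 8 ≤ Nat.card E) {x : P}
    (hx : x ^ 2 = 1) (hxT : x ∈ centralizer (V : Set P)) : InEight x := by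
  by_cases hxV : x ∈ V
  · by_cases hVE : V ≤ E
    · exact ⟨E, hE, h8, hVE hxV⟩
    obtain ⟨k, hk, hkV⟩ : ∃ k ∈ E ⊓ centralizer (V : Set P), k ∉ V := by
      by_contra hno
      push Not at hno
      have := Subgroup.eq_of_le_of_card_ge (show E ⊓ centralizer (V : Set P) ≤ V from hno)
        (by rw [h.card]; exact h.four_le_inf h8)
      exact hVE (this ▸ inf_le_left)
    obtain ⟨hA, hA8⟩ := eight_le_sup h.elem (by rw [h.card]) (hE.2 k hk.1) hkV
      fun a ha => mem_centralizer_iff.1 hk.2 a ha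
    exact ⟨_, hA, hA8, mem_sup_left hxV⟩
  · obtain ⟨hA, hA8⟩ := eight_le_sup h.elem (by rw [h.card]) hx hxV
      fun a ha => mem_centralizer_iff.1 hxT a ha
    exact ⟨_, hA, hA8, mem_sup_right (mem_zpowers x)⟩

theorem isKleinFour : IsKleinFour V := ⟨h.card, by
  refine Nat.dvd_antisymm (Monoid.exponent_dvd_of_forall_pow_eq_one fun x => Subtype.ext (h.sq _ x.2)) ?_
  have : orderOf (⟨z, h.mem⟩ : V) = 2 := by rw [Subgroup.orderOf_mk]; exact orderOf_eq_prime h.z2 h.ne
  exact this ▸ Monoid.order_dvd_exponent _⟩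

/-- Connectedness. -/
theorem connected (hu : ∀ u : P, orderOf u = 2 → InEight u) : Cfsg.IsFourConnected P := by
  haveI : Fact (Nat.Prime 2) := ⟨Nat.prime_two⟩
  let R : Subgroup P → Subgroup P → Prop := fun A B =>
    IsKleinFour A ∧ IsKleinFour B ∧ ∀ a ∈ A, ∀ b ∈ B, a * b = b * a
  have hsymm : ∀ A B, R A B → R B A := fun A B hAB =>
    ⟨hAB.2.1, hAB.1, fun b hb a ha => (hAB.2.2 a ha b hb).symm⟩
  have hVk := h.isKleinFour
  have main : ∀ U : Subgroup P, IsKleinFour U → Relation.ReflTransGen R U V := by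
    intro U hU
    have hUe : Cfsg.IsElementaryAbelian 2 U := elemAb_of_klein hU
    obtain ⟨F, hF, hF8, hUF⟩ : ∃ F : Subgroup P, Cfsg.IsElementaryAbelian 2 F ∧ 8 ≤ Nat.card F ∧ U ≤ F := by
      by_cases hzU : z ∈ U
      · obtain ⟨x, hxU, hx⟩ : ∃ x ∈ U, x ∉ zpowers z := by
          by_contra hno
          push Not at hno
          have := Subgroup.card_le_of_le (show U ≤ zpowers z from hno)
          rw [hU.card_four, Nat.card_zpowers, orderOf_eq_prime h.z2 h.ne] at this
          omega
        have hx1 : x ≠ 1 := fun e => hx (e ▸ one_mem _)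
        have hxz : z ≠ x := fun e => hx (e ▸ mem_zpowers z)
        obtain ⟨F, hF, hF8, hxF⟩ := hu x (orderOf_eq_prime (hUe.2 x hxU) hx1)
        refine ⟨F ⊔ zpowers z, ?_, hF8.trans (Subgroup.card_le_of_le le_sup_left), fun y hy => ?_⟩
        · refine elemAb_sup hF (elemAb_zpowers h.z2) fun a _ c hc => ?_
          obtain ⟨i, rfl⟩ := mem_zpowers_iff.1 hc
          exact ((h.central a).symm).zpow_right i
        · have hzF : z ∈ F ⊔ zpowers z := mem_sup_right (mem_zpowers z)
          rcases mem_four hU.card_four hzU hxU h.ne hx1 hxz h.z2 hy with rfl | rfl | rfl | rfl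
          exacts [one_mem _, hzF, mem_sup_left hxF, mul_mem hzF (mem_sup_left hxF)]
      · obtain ⟨hA, hA8⟩ := eight_le_sup hUe (le_of_eq hU.card_four.symm) h.z2 hzU
          fun a _ => (h.central a).symm
        exact ⟨_, hA, hA8, le_sup_left⟩
    have h4 := h.four_le_inf hF8
    set K := F ⊓ centralizer (V : Set P) with hK
    obtain ⟨⟨a, haK⟩, ha⟩ := (Subgroup.ne_bot_iff_exists_ne_one).1 (fun e => by
      rw [e, Subgroup.card_bot] at h4; omega : K ≠ ⊥)
    have ha1 : a ≠ 1 := fun e => ha (Subtype.ext e)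
    have ha2 := hF.2 a haK.1
    obtain ⟨b, hbK, hb⟩ : ∃ b ∈ K, b ∉ zpowers a := by
      by_contra hno
      push Not at hno
      have := Subgroup.card_le_of_le (show K ≤ zpowers a from hno)
      rw [Nat.card_zpowers, orderOf_eq_prime ha2 ha1] at this
      omega
    have hb1 : b ≠ 1 := fun e => hb (e ▸ one_mem _)
    have hab : a ≠ b := fun e => hb (e ▸ mem_zpowers a)
    obtain ⟨W, hW, -, -, hWle⟩ := exists_klein_of_commute (orderOf_eq_prime ha2 ha1)
      (orderOf_eq_prime (hF.2 b hbK.1) hb1) hab (Grp.elemAb_comm hF a haK.1 b hbK.1)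
    have hWK : W ≤ K := hWle.trans (sup_le (zpowers_le.2 haK) (zpowers_le.2 hbK))
    have h1 : R U W := ⟨hU, hW, fun x hx y hy => Grp.elemAb_comm hF x (hUF hx) y (hWK hy).1⟩
    have h2 : R W V := ⟨hW, hVk, fun x hx y hy => ((mem_centralizer_iff.1 (hWK hx).2) y hy).symm⟩
    exact (Relation.ReflTransGen.single h1).tail h2
  intro U W hU hW
  refine (main U hU).trans ?_
  have rev : ∀ A B, Relation.ReflTransGen R A B → Relation.ReflTransGen R B A := fun A B hAB => by
    induction hAB with
    | refl => exact .refl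
    | tail _ hbc ih => exact ih.head (hsymm _ _ hbc)
  exact rev _ _ (main W hW)

end Frame

end Cfsg.Agent.Transfer.UnitaryFour
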