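import Cfsg.Agent.Lib.Transfer.UnitaryFour.Frame
import Cfsg.Agent.Lib.Transfer.NormalComplement
import Cfsg.Agent.Lib.Fus.FourConnected
import Cfsg.Agent.S0111
import Cfsg.Agent.Lib.Grp.Frattini

/-!
# Connectedness when the centralisers of involutions are 2-nilpotent

In a group without subgroup of index 2 whose involution centralisers have normal 2-complements, a
Sylow 2-subgroup of rank at least 3 has connected graph of four-subgroups.
-/

set_option autoImplicit false
set_option linter.style.haveILetI false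
set_option linter.unusedSectionVars false

namespace Cfsg.Agent.Transfer.UnitaryFour

open Subgroup CoreConsumers ConstrainedCores

universe u

variable {G : Type u} [Group G] [Finite G]

/-- Elementary subgroups of the Sylow subgroup, seen inside it. -/
theorem inEight_of_le (S : Sylow 2 G) {F : Subgroup G} (hF : Cfsg.IsElementaryAbelian 2 F)
    (h8 : 8 ≤ Nat.card F) (hFS : F ≤ (S : Subgroup G)) (x : ↥(S : Subgroup G)) (hx : (x : G) ∈ F) :
    InEight x := by
  refine ⟨F.subgroupOf (S : Subgroup G), ⟨⟨⟨fun a b => Subtype.ext (Subtype.ext ?_)⟩⟩, fun a ha => Subtype.ext ?_⟩,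
    by rwa [Nat.card_congr (subgroupOfEquivOfLe hFS).toEquiv], hx⟩
  · exact Grp.elemAb_comm hF _ a.2 _ b.2
  · exact hF.2 _ ha

/-- A 2-element normalising the centraliser `S ∩ C(u)` and centralising `u` and a central `z` lies in it. -/
theorem mem_of_centralizing (S : Sylow 2 G) {u z x : G} (huS : u ∈ (S : Subgroup G))
    (hz : (S : Subgroup G) ≤ centralizer ({z} : Set G))
    (hnpc : Cfsg.HasNormalPComplement 2 ↥(centralizer ({z} : Set G))) {R : Subgroup G} (hR : IsPGroup 2 R)
    (hDR : (S : Subgroup G) ⊓ centralizer ({u} : Set G) ≤ R) (hxR : x ∈ R)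
    (hxz : Commute x z) (hxu : Commute x u) : x ∈ (S : Subgroup G) := by
  haveI : Fact (Nat.Prime 2) := ⟨Nat.prime_two⟩
  set C := centralizer ({z} : Set G) with hC
  obtain ⟨N, hN, hd, k, hk⟩ := hasNormalPComplement_iff_exists.1 hnpc
  haveI := hN
  have hodd : ∀ (A : Subgroup G), IsPGroup 2 A → ∀ n ∈ N, (n : G) ∈ A → n = 1 := fun A hA n hn hnA => by
    obtain ⟨j, hj⟩ := hA ⟨_, hnA⟩
    have h1 : orderOf (n : G) ∣ 2 ^ j := orderOf_dvd_of_pow_eq_one (by simpa using congrArg Subtype.val hj)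
    rw [Subgroup.orderOf_coe] at h1
    exact orderOf_eq_one_iff.1 (Nat.eq_one_of_dvd_coprimes
      (((Fact.out : Nat.Prime 2).coprime_iff_not_dvd.2 hd).pow_left j) h1 (N.orderOf_dvd_natCard hn))
  obtain ⟨n, hn, s, hs, e⟩ := Subgroup.mem_sup_of_normal_left.1
    ((isComplement'_sylow (S.subtype hz) hd hk).sup_eq_top ▸
      mem_top (⟨x, mem_centralizer_singleton_iff.2 hxz.eq⟩ : C))
  have hsS : (s : G) ∈ (S : Subgroup G) := by
    rw [Sylow.coe_subtype, mem_subgroupOf] at hs
    exact hs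
  have hxe : (n : G) * s = x := congrArg Subtype.val e
  set d := (s : G) * u * (s : G)⁻¹ with hd'
  have hdS : d ∈ (S : Subgroup G) := mul_mem (mul_mem hsS huS) (inv_mem hsS)
  have hnd : (n : G) * d * (n : G)⁻¹ = u := by
    rw [hd', show (n : G) * ((s : G) * u * (s : G)⁻¹) * (n : G)⁻¹ = (n * s) * u * (n * s : G)⁻¹ by group,
      hxe, hxu.eq, mul_inv_cancel_right]
  have hud : d⁻¹ * u ∈ (S : Subgroup G) := mul_mem (inv_mem hdS) huS
  have hmem : (⟨d⁻¹ * u, hz hud⟩ : C) ∈ N := by
    have : (⟨d⁻¹ * u, hz hud⟩ : C) = (⟨d, hz hdS⟩ : C)⁻¹ * n * ⟨d, hz hdS⟩ * n⁻¹ := Subtype.ext (by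
      show d⁻¹ * u = d⁻¹ * (n : G) * d * (n : G)⁻¹
      rw [mul_assoc _ (n : G) d, mul_assoc d⁻¹, hnd])
    rw [this]
    exact mul_mem (by simpa using hN.conj_mem n hn (⟨d, hz hdS⟩ : C)⁻¹) (inv_mem hn)
  have h1 : d⁻¹ * u = 1 := congrArg Subtype.val (hodd _ S.isPGroup' _ hmem hud)
  have hsu : Commute (s : G) u := by
    have hdu : d = u := by rw [← mul_right_inj d⁻¹, inv_mul_cancel, h1]
    exact (mul_inv_eq_iff_eq_mul.1 (hd'.symm.trans hdu))
  have hsR : (s : G) ∈ R := hDR ⟨hsS, mem_centralizer_singleton_iff.2 hsu.eq⟩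
  have hn1 := hodd R hR n hn (by
    rw [show (n : G) = x * (s : G)⁻¹ by rw [← hxe, mul_inv_cancel_right]]
    exact mul_mem hxR (inv_mem hsR))
  rw [← hxe, hn1]
  simpa using hsS

theorem inEight_of_two_nilpotent (hG : ∀ H : Subgroup G, H.index ≠ 2)
    (hI : ∀ t : G, orderOf t = 2 → Cfsg.HasNormalPComplement 2 ↥(centralizer ({t} : Set G)))
    (S : Sylow 2 G) {V : Subgroup ↥(S : Subgroup G)} {z : ↥(S : Subgroup G)} (h : Frame V z)
    (E : Subgroup ↥(S : Subgroup G)) (hE : Cfsg.IsElementaryAbelian 2 E) (h8 : 8 ≤ Nat.card E)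
    (u : ↥(S : Subgroup G)) (hu : orderOf u = 2) : InEight u := by
  haveI : Fact (Nat.Prime 2) := ⟨Nat.prime_two⟩
  haveI := h.normal
  have hu2 : u ^ 2 = 1 := (orderOf_eq_prime_iff.1 hu).1
  set T := centralizer (V : Set ↥(S : Subgroup G)) with hT
  by_cases huT : u ∈ T
  · exact h.inEight_of_mem E hE h8 hu2 huT
  by_contra hno
  have hTne : T ≠ ⊤ := fun e => huT (e ▸ mem_top u)
  have hTi : T.index = 2 := le_antisymm h.centralizer_index (by
    have h0 : T.index ≠ 0 := index_ne_zero_of_finite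
    have h1 : T.index ≠ 1 := fun e => hTne (Subgroup.index_eq_one.1 e)
    omega)
  have hz2 := h.z2
  have hu1 : u ≠ 1 := fun e => by rw [e, orderOf_one] at hu; omega
  have hzT : z ∈ T := h.le_centralizer h.mem
  have hmulT : ∀ {a b : ↥(S : Subgroup G)}, a * b ∈ T ↔ (a ∈ T ↔ b ∈ T) := fun {a b} =>
    Subgroup.mul_mem_iff_of_index_two hTi
  -- the involutions of T centralising u
  have hinT : ∀ w ∈ T, Commute w u → w ^ 2 = 1 → w = 1 ∨ w = z := by
    intro w hw hwu hw2
    by_contra hne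
    push Not at hne
    obtain ⟨hA, h4⟩ : Cfsg.IsElementaryAbelian 2 (zpowers z ⊔ zpowers w : Subgroup _) ∧
        4 ≤ Nat.card (zpowers z ⊔ zpowers w : Subgroup _) := by
      refine ⟨elemAb_sup (elemAb_zpowers hz2) (elemAb_zpowers hw2) fun a ha c hc => ?_,
        four_le_card_sup hz2 hw2 (h.central w) h.ne fun hwz => ?_⟩
      · obtain ⟨i, rfl⟩ := mem_zpowers_iff.1 ha
        obtain ⟨j, rfl⟩ := mem_zpowers_iff.1 hc
        exact (h.central w).zpow_zpow i j
      · have hzp := elemAb_zpowers hz2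
        have hc2 : Nat.card (zpowers z) = 2 := by rw [Nat.card_zpowers, orderOf_eq_prime hz2 h.ne]
        obtain ⟨x, y, hxy, huniv⟩ := Nat.card_eq_two_iff.1 hc2
        have hall : ∀ a : zpowers z, a = x ∨ a = y := fun a => by
          simpa using (huniv.ge (Set.mem_univ a) : a ∈ ({x, y} : Set (zpowers z)))
        rcases hall ⟨w, hwz⟩ with e | e <;> rcases hall 1 with e1 | e1 <;>
          rcases hall ⟨z, mem_zpowers z⟩ with e2 | e2 <;>
          first
            | exact hne.1 (congrArg Subtype.val (e.trans e1.symm))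
            | exact hne.2 (congrArg Subtype.val (e.trans e2.symm))
            | exact h.ne (congrArg Subtype.val (e2.trans e1.symm))
    have hle : (zpowers z ⊔ zpowers w : Subgroup _) ≤ T := sup_le (zpowers_le.2 hzT) (zpowers_le.2 hw)
    obtain ⟨hF, hF8⟩ := eight_le_sup hA h4 hu2 (fun e => huT (hle e)) fun a ha => by
      refine mem_centralizer_singleton_iff.1 (?_ : a ∈ centralizer {u})
      exact (sup_le (zpowers_le.2 (mem_centralizer_singleton_iff.2 (h.central u).eq))
        (zpowers_le.2 (mem_centralizer_singleton_iff.2 hwu.eq)) : zpowers z ⊔ zpowers w ≤ centralizer {u}) ha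
    exact hno ⟨_, hF, hF8, mem_sup_right (mem_zpowers u)⟩
  -- transfer
  obtain ⟨g, hg⟩ : ∃ g : G, g * u * g⁻¹ ∈ T.map (S : Subgroup G).subtype := by
    refine (Cfsg.Agent.S0111.result S (T.map (S : Subgroup G).subtype) (map_subtype_le _) ?_ (u : G)
      (by rw [Subgroup.orderOf_coe, hu]) u.2 ?_).resolve_left fun ⟨M, _, hM, _⟩ => hG M hM
    · rw [Subgroup.relIndex, ← Subgroup.comap_subtype, comap_map_eq_self_of_injective Subtype.val_injective, hTi]
    · rintro ⟨a, ha, e⟩
      exact huT ((Subtype.ext e : a = u) ▸ ha)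
  obtain ⟨t, htT, ht⟩ := hg
  have ht2 : t ^ 2 = 1 := Subtype.ext (by
    rw [SubgroupClass.coe_pow, show (t : G) = g * u * g⁻¹ from ht, conj_pow, ← SubgroupClass.coe_pow, hu2]
    simp)
  obtain ⟨F', hF', hF'8, htF'⟩ := h.inEight_of_mem E hE h8 ht2 htT
  set C := centralizer ({(u : G)} : Set G) with hC
  set D := (S : Subgroup G) ⊓ C with hD
  -- an elementary group of order at least eight in C(u)
  set A := (F'.map (S : Subgroup G).subtype).map (MulAut.conj g⁻¹).toMonoidHom with hAdef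
  have hA : Cfsg.IsElementaryAbelian 2 A := elemAb_map _ (elemAb_map _ hF')
  have hA8 : 8 ≤ Nat.card A := by
    rw [hAdef, card_map_of_injective (MulAut.conj g⁻¹).injective, card_map_of_injective Subtype.val_injective]
    exact hF'8
  have huA : (u : G) ∈ A := ⟨(t : G), mem_map_of_mem _ htF', by
    show g⁻¹ * (t : G) * g⁻¹⁻¹ = u
    rw [show (t : G) = g * u * g⁻¹ from ht]
    group⟩
  have hAC : A ≤ C := fun a ha => mem_centralizer_singleton_iff.2 (Grp.elemAb_comm hA a ha _ huA)
  -- a larger 2-subgroup of C(u)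
  obtain ⟨R, hR⟩ := (S.isPGroup'.to_le (inf_le_left : D ≤ S)).comap_subtype (K := C) |>.exists_le_sylow
  set R' := (R : Subgroup C).map C.subtype with hR'
  have hDR : D ≤ R' := fun d hd => ⟨⟨d, hd.2⟩, hR (mem_subgroupOf.2 hd), rfl⟩
  have hR'C : R' ≤ C := map_subtype_le _
  have hne : D ≠ R' := fun e => by
    obtain ⟨R₂, hR₂⟩ := ((eq_one_or_two hA).comap_subtype (K := C)).exists_le_sylow
    obtain ⟨c, hc⟩ := MulAction.exists_smul_eq C R₂ R
    have hAR : A.map (MulAut.conj (c : G)).toMonoidHom ≤ R' := by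
      rintro _ ⟨a, ha, rfl⟩
      refine ⟨c * ⟨a, hAC ha⟩ * c⁻¹, ?_, by simp⟩
      rw [SetLike.mem_coe, ← hc, Sylow.coe_subgroup_smul]
      exact ⟨⟨a, hAC ha⟩, hR₂ (mem_subgroupOf.2 ha), rfl⟩
    refine hno (inEight_of_le S (elemAb_map _ hA)
      (by rw [card_map_of_injective (MulAut.conj (c : G)).injective]; exact hA8)
      (hAR.trans (e ▸ inf_le_left)) u ⟨(u : G), huA, ?_⟩)
    show (c : G) * u * (c : G)⁻¹ = u
    rw [mem_centralizer_singleton_iff.1 c.2, mul_inv_cancel_right]
  obtain ⟨x, ⟨hxR, hxN⟩, hxD⟩ := SetLike.exists_of_lt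
    (Fus.FourGraph.exists_lt_le (R.isPGroup'.map C.subtype) (lt_of_le_of_ne hDR hne))
  have hxu : Commute x (u : G) := mem_centralizer_singleton_iff.1 (hR'C hxR)
  have hconj : ∀ d : ↥(S : Subgroup G), Commute d u → ∃ d' : ↥(S : Subgroup G), Commute d' u ∧
      (d' : G) = x * d * x⁻¹ := fun d hd => by
    obtain ⟨h1, h2⟩ := (mem_normalizer_iff.1 hxN (d : G)).1
      ⟨d.2, mem_centralizer_singleton_iff.2 (congrArg Subtype.val hd.eq)⟩
    exact ⟨⟨_, h1⟩, Subtype.ext (mem_centralizer_singleton_iff.1 h2), rfl⟩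
  obtain ⟨z', hz'u, hz'⟩ := hconj z (h.central u)
  have hz'2 : z' ^ 2 = 1 := Subtype.ext (by
    rw [SubgroupClass.coe_pow, hz', conj_pow, ← SubgroupClass.coe_pow, hz2]; simp)
  have hz'T : z' ∉ T := fun hm => by
    rcases hinT z' hm hz'u hz'2 with e | e
    · refine h.ne (Subtype.ext ?_)
      rw [e, OneMemClass.coe_one, eq_comm, conj_eq_one_iff] at hz'
      exact hz'
    · rw [e, eq_comm, mul_inv_eq_iff_eq_mul] at hz'
      refine hxD ⟨mem_of_centralizing S u.2 ?_ (hI z ?_) (R.isPGroup'.map C.subtype) hDR hxR hz' hxu,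
        hR'C hxR⟩
      · exact fun s hs => mem_centralizer_singleton_iff.2
          (congrArg Subtype.val (h.central ⟨s, hs⟩).symm.eq)
      · rw [Subgroup.orderOf_coe]
        exact orderOf_eq_prime hz2 h.ne
  -- squares of elements centralising u
  have hsq : ∀ d : ↥(S : Subgroup G), Commute d u → d ^ 2 ≠ z := fun d hd e => by
    obtain ⟨d', -, hd'⟩ := hconj d hd
    refine hz'T ?_
    have : z' = d' ^ 2 := Subtype.ext (by
      rw [SubgroupClass.coe_pow, hd', conj_pow, ← SubgroupClass.coe_pow, e, hz'])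
    rw [this]
    exact Subgroup.sq_mem_of_index_two hTi d'
  have hDT : ∀ d ∈ T, Commute d u → d = 1 ∨ d = z := by
    intro d hd hdu
    obtain ⟨k, hk⟩ := S.isPGroup' d
    have key : ∀ j : ℕ, d ^ 2 ^ j = 1 → d = 1 ∨ d = z := by
      intro j
      induction j with
      | zero => intro e; left; simpa using e
      | succ j ih =>
        intro e
        rcases hinT (d ^ 2 ^ j) (pow_mem hd _) (hdu.pow_left _) (by rwa [← pow_mul, ← pow_succ]) with e1 | e1
        · exact ih e1
        · cases j with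
          | zero => right; simpa using e1
          | succ j => exact absurd (by rw [← pow_mul, ← pow_succ]; exact e1) (hsq (d ^ 2 ^ j) (hdu.pow_left _))
    exact key k hk
  -- the quotient by V
  obtain ⟨v, hv, hv1, hvz, hall⟩ := h.exists_other
  have hvu : u * v * u⁻¹ = z * v := by
    rcases hall _ (h.normal.conj_mem v hv u) with e | e | e | e
    · exact absurd (conj_eq_one_iff.1 e) hv1
    · refine absurd ?_ hvz
      calc v = u⁻¹ * (u * v * u⁻¹) * u := by group
        _ = u⁻¹ * (z * u) := by rw [e, mul_assoc]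
        _ = z := by rw [(h.central u).eq, inv_mul_cancel_left]
    · refine absurd (mem_centralizer_iff.2 fun b hb => ?_) huT
      have hcv : Commute v u := (mul_inv_eq_iff_eq_mul.1 e).symm
      rcases hall b hb with rfl | rfl | rfl | rfl
      exacts [(Commute.one_left u).eq, (h.central u).eq, hcv.eq, ((h.central u).mul_left hcv).eq]
    · exact e
  have hTV : ¬ T ≤ V := fun hle => by
    have hcard : Nat.card ↥(S : Subgroup G) ≤ 8 := by
      rw [← T.card_mul_index, hTi]
      have := Subgroup.card_le_of_le hle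
      rw [h.card] at this
      omega
    have hEtop : E = ⊤ := Subgroup.eq_top_of_le_card _ (hcard.trans h8)
    exact hTne (Subgroup.eq_top_iff' T |>.2 fun a => mem_centralizer_iff.2 fun b _ =>
      Grp.elemAb_comm hE b (hEtop ▸ mem_top b) a (hEtop ▸ mem_top a))
  set q := QuotientGroup.mk' V with hq
  haveI : (T.map q).Normal := (Subgroup.normal_of_index_eq_two hTi).map q (QuotientGroup.mk'_surjective V)
  haveI : Group.IsNilpotent (↥(S : Subgroup G) ⧸ V) := (S.isPGroup'.to_quotient V).isNilpotent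
  obtain ⟨a, ⟨⟨b, hb, rfl⟩, hac⟩, hane⟩ := (Subgroup.bot_or_exists_ne_one _).resolve_left
    (Grp.inf_center_ne_bot (T.map q) fun e => hTV (by
      rw [Subgroup.map_eq_bot_iff, hq, QuotientGroup.ker_mk'] at e; exact e))
  have hbV : b ∉ V := fun hm => hane ((QuotientGroup.eq_one_iff b).2 hm)
  have hwV : b * u * b⁻¹ * u⁻¹ ∈ V := by
    rw [← QuotientGroup.eq_one_iff]
    have := Subgroup.mem_center_iff.1 hac (q u)
    show q (b * u * b⁻¹ * u⁻¹) = 1
    rw [map_mul, map_mul, map_mul, map_inv, map_inv, ← this, mul_inv_cancel_right, mul_inv_cancel]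
  set w := b * u * b⁻¹ * u⁻¹ with hw
  have hwu : b * u * b⁻¹ = w * u := by rw [hw, inv_mul_cancel_right]
  have hwu2 : (w * u) ^ 2 = 1 := by rw [← hwu, conj_pow, hu2]; simp
  have hwc : Commute w u := by
    have e : w * u * (w * u) = 1 := by rw [← pow_two, hwu2]
    have hww : w⁻¹ = w := inv_eq_of_mul_eq_one_right (by rw [← pow_two, h.sq w hwV])
    have huu : u⁻¹ = u := inv_eq_of_mul_eq_one_right (by rw [← pow_two, hu2])
    calc w * u = (w * u)⁻¹ := (inv_eq_of_mul_eq_one_right e).symm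
      _ = u * w := by rw [mul_inv_rev, hww, huu]
  rcases hinT w (h.le_centralizer hwV) hwc (h.sq w hwV) with e | e
  · rcases hDT b hb (mul_inv_eq_iff_eq_mul.1 (by rw [hwu, e, one_mul])) with rfl | rfl
    exacts [hbV (one_mem _), hbV h.mem]
  · rw [e] at hwu
    have hvT : v ∈ T := h.le_centralizer hv
    have hc : Commute (v * b) u := by
      have h1 : v * (z * u) * v⁻¹ = u := by
        have hvz' : v * u * v⁻¹ = z * u := by
          calc v * u * v⁻¹ = z * (z * v) * u * v⁻¹ := by
                rw [← mul_assoc z z, ← pow_two, hz2, one_mul]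
            _ = z * (u * v * u⁻¹) * u * v⁻¹ := by rw [hvu]
            _ = z * u := by group
        calc v * (z * u) * v⁻¹ = z * (v * u * v⁻¹) := by
              rw [← mul_assoc v z u, ← (h.central v).eq]; group
          _ = u := by rw [hvz', ← mul_assoc, ← pow_two, hz2, one_mul]
      refine mul_inv_eq_iff_eq_mul.1 ?_
      rw [show v * b * u * (v * b)⁻¹ = v * (b * u * b⁻¹) * v⁻¹ by group, hwu, h1]
    rcases hDT (v * b) (mul_mem hvT hb) hc with e1 | e1
    · exact hbV (eq_inv_of_mul_eq_one_right e1 ▸ inv_mem hv)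
    · exact hbV ((eq_inv_mul_iff_mul_eq.2 e1) ▸ mul_mem (inv_mem hv) h.mem)

/-- Connectedness of the Sylow 2-subgroup. -/
theorem connected_of_two_nilpotent (hG : ∀ H : Subgroup G, H.index ≠ 2)
    (hI : ∀ t : G, orderOf t = 2 → Cfsg.HasNormalPComplement 2 ↥(centralizer ({t} : Set G)))
    (S : Sylow 2 G) (E : Subgroup ↥(S : Subgroup G)) (hE : Cfsg.IsElementaryAbelian 2 E)
    (h8 : 8 ≤ Nat.card E) : Cfsg.IsFourConnected (S : Subgroup G) := by
  obtain ⟨V, z, h⟩ := exists_frame S.isPGroup' E hE h8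
  exact h.connected fun u hu => inEight_of_two_nilpotent hG hI S h E hE h8 u hu

end Cfsg.Agent.Transfer.UnitaryFour
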